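import Groth.Prelude.Def_SheafNL
import Mathlib.RingTheory.TensorProduct.MvPolynomial
import Mathlib.RingTheory.Flat.Equalizer
import Mathlib.RingTheory.Localization.BaseChange

/-!
# Base change of the naive cotangent complex: the degree-wise maps
-/

set_option autoImplicit false

universe u

open TensorProduct

namespace Groth.Agent.Lib.NLSheaf.BaseChange

section Extension

variable {R S R' S' : Type u} [CommRing R] [CommRing S] [CommRing R'] [CommRing S'] [Algebra R S]
  [Algebra R' S'] [Algebra R R'] [Algebra S S'] [Algebra R S'] [IsScalarTower R R' S'] [IsScalarTower R S S']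
  {P : Algebra.Extension.{u} R S} {P' : Algebra.Extension.{u} R' S'} (f : P.Hom P')

/-- The kernel maps into the kernel. -/
theorem map_mem_ker (x : P.ker) : f.toRingHom x ∈ P'.ker := by
  rw [RingHom.mem_ker, f.algebraMap_toRingHom, show algebraMap P.Ring S x = 0 from x.2, map_zero]

theorem cotangent_map_mk (x : P.ker) :
    Algebra.Extension.Cotangent.map f (.mk x) = .mk ⟨f.toRingHom x, map_mem_ker f x⟩ :=
  Algebra.Extension.Cotangent.map_mk f x

theorem liftBaseChange_cotangent_surjective (hker : P'.ker = P.ker.map f.toRingHom) :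
    Function.Surjective (LinearMap.liftBaseChange S' (Algebra.Extension.Cotangent.map f)) := by
  let L := LinearMap.range (LinearMap.liftBaseChange S' (Algebra.Extension.Cotangent.map f))
  suffices h : ∀ y : P'.Cotangent, y ∈ L from h
  intro y
  obtain ⟨⟨y, hy⟩, rfl⟩ := Algebra.Extension.Cotangent.mk_surjective y
  have key : ∀ (y : P'.Ring) (_ : y ∈ Ideal.span (f.toRingHom '' (P.ker : Set P.Ring))),
      ∃ hy : y ∈ P'.ker, Algebra.Extension.Cotangent.mk ⟨y, hy⟩ ∈ L := by
    intro y hy
    induction hy using Submodule.span_induction with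
    | mem y hy =>
      obtain ⟨x, hx, rfl⟩ := hy
      refine ⟨map_mem_ker f ⟨x, hx⟩, (1 : S') ⊗ₜ Algebra.Extension.Cotangent.mk (⟨x, hx⟩ : P.ker), ?_⟩
      rw [LinearMap.liftBaseChange_tmul, one_smul, cotangent_map_mk]
    | zero =>
      refine ⟨P'.ker.zero_mem, ?_⟩
      rw [show (⟨0, P'.ker.zero_mem⟩ : P'.ker) = 0 from rfl, map_zero]
      exact L.zero_mem
    | add a b _ _ ha hb =>
      obtain ⟨ha₁, ha₂⟩ := ha
      obtain ⟨hb₁, hb₂⟩ := hb
      refine ⟨add_mem ha₁ hb₁, ?_⟩
      rw [show (⟨a + b, add_mem ha₁ hb₁⟩ : P'.ker) = ⟨a, ha₁⟩ + ⟨b, hb₁⟩ from rfl, map_add]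
      exact L.add_mem ha₂ hb₂
    | smul c a _ ha =>
      obtain ⟨ha₁, ha₂⟩ := ha
      refine ⟨P'.ker.smul_mem c ha₁, ?_⟩
      rw [show (⟨c • a, P'.ker.smul_mem c ha₁⟩ : P'.ker) = c • ⟨a, ha₁⟩ from rfl, map_smul,
        ← IsScalarTower.algebraMap_smul S' c]
      exact L.smul_mem _ ha₂
  obtain ⟨_, h⟩ := key y (by rw [hker] at hy; exact hy)
  exact h

theorem liftBaseChange_cotangent_injective [alg : Algebra P.Ring P'.Ring]
    (halg : ∀ x, algebraMap P.Ring P'.Ring x = f.toRingHom x) (hker : P'.ker = P.ker.map f.toRingHom)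
    (hinj : Function.Injective (P.ker.subtype.lTensor P'.Ring)) :
    Function.Injective (LinearMap.liftBaseChange S' (Algebra.Extension.Cotangent.map f)) := by
  let C := Algebra.Extension.Cotangent.map f
  let bil : P'.Ring →+ P.ker →+ S' ⊗[S] P.Cotangent :=
    AddMonoidHom.mk' (fun q => AddMonoidHom.mk'
      (fun x => algebraMap P'.Ring S' q ⊗ₜ[S] Algebra.Extension.Cotangent.mk x)
      fun x y => by rw [map_add, TensorProduct.tmul_add])
      fun q r => AddMonoidHom.ext fun x => by
        change algebraMap P'.Ring S' (q + r) ⊗ₜ[S] _ = algebraMap P'.Ring S' q ⊗ₜ[S] _ + algebraMap P'.Ring S' r ⊗ₜ[S] _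
        rw [map_add, TensorProduct.add_tmul]
  let π : P'.Ring ⊗[P.Ring] P.ker →+ S' ⊗[S] P.Cotangent :=
    TensorProduct.liftAddHom bil fun r q x => by
      change algebraMap P'.Ring S' (r • q) ⊗ₜ[S] _ = _ ⊗ₜ[S] Algebra.Extension.Cotangent.mk (r • x)
      rw [Algebra.smul_def, map_mul, halg, f.algebraMap_toRingHom, ← Algebra.smul_def,
        TensorProduct.smul_tmul, map_smul, IsScalarTower.algebraMap_smul]
  let e : P'.Ring ⊗[P.Ring] P.ker →ₗ[P.Ring] P'.Ring :=
    (TensorProduct.rid P.Ring P'.Ring).toLinearMap ∘ₗ P.ker.subtype.lTensor P'.Ring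
  have he : Function.Injective e := (TensorProduct.rid P.Ring P'.Ring).injective.comp hinj
  have he' : ∀ q x, e (q ⊗ₜ x) = f.toRingHom (x : P.Ring) * q := fun q x => by
    change (x : P.Ring) • q = _
    rw [Algebra.smul_def, halg]
  have hCπ : ∀ w, ∃ hw : e w ∈ P'.ker,
      LinearMap.liftBaseChange S' C (π w) = Algebra.Extension.Cotangent.mk ⟨e w, hw⟩ := by
    intro w
    induction w using TensorProduct.induction_on with
    | zero =>
      refine ⟨by rw [map_zero]; exact P'.ker.zero_mem, ?_⟩
      rw [map_zero, map_zero, ← map_zero (Algebra.Extension.Cotangent.mk (P := P'))]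
      exact congrArg _ (Subtype.ext (map_zero e).symm)
    | tmul q x =>
      refine ⟨by rw [he']; exact P'.ker.mul_mem_right q (map_mem_ker f x), ?_⟩
      change LinearMap.liftBaseChange S' C (algebraMap P'.Ring S' q ⊗ₜ[S] _) = _
      rw [LinearMap.liftBaseChange_tmul, cotangent_map_mk, IsScalarTower.algebraMap_smul, ← map_smul]
      exact congrArg _ (Subtype.ext ((mul_comm _ _).trans (he' q x).symm))
    | add a b ha hb =>
      obtain ⟨ha₁, ha₂⟩ := ha
      obtain ⟨hb₁, hb₂⟩ := hb
      refine ⟨by rw [map_add]; exact add_mem ha₁ hb₁, ?_⟩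
      rw [map_add, map_add, ha₂, hb₂, ← map_add]
      congr 1
      exact Subtype.ext (map_add e a b).symm
  have hrange : ∀ y ∈ P'.ker, ∃ v, e v = y := by
    intro y hy
    rw [hker] at hy
    change y ∈ Ideal.span (f.toRingHom '' (P.ker : Set P.Ring)) at hy
    induction hy using Submodule.span_induction with
    | mem y hy =>
      obtain ⟨x, hx, rfl⟩ := hy
      exact ⟨1 ⊗ₜ ⟨x, hx⟩, by rw [he', mul_one]⟩
    | zero => exact ⟨0, map_zero e⟩
    | add a b _ _ ha hb =>
      obtain ⟨va, rfl⟩ := ha
      obtain ⟨vb, rfl⟩ := hb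
      exact ⟨va + vb, map_add e va vb⟩
    | smul c a hm ha =>
      obtain ⟨va, rfl⟩ := ha
      clear hm
      refine ⟨c • va, ?_⟩
      induction va using TensorProduct.induction_on with
      | zero => simp
      | tmul q x => rw [TensorProduct.smul_tmul', he', he', smul_eq_mul, smul_eq_mul]; ring
      | add a b iha ihb => rw [smul_add, map_add, iha, ihb, map_add, smul_add]
  have hπsmul : ∀ (a : P'.Ring) v, π (a • v) = algebraMap P'.Ring S' a • π v := by
    intro a v
    induction v using TensorProduct.induction_on with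
    | zero => simp
    | tmul q x =>
      change π ((a * q) ⊗ₜ x) = algebraMap P'.Ring S' a • (algebraMap P'.Ring S' q ⊗ₜ[S] _)
      change algebraMap P'.Ring S' (a * q) ⊗ₜ[S] _ = _
      rw [map_mul, TensorProduct.smul_tmul', smul_eq_mul]
    | add a b iha ihb => simp only [smul_add, map_add, iha, ihb]
  have hesmul : ∀ (a : P'.Ring) v, e (a • v) = a * e v := by
    intro a v
    induction v using TensorProduct.induction_on with
    | zero => simp
    | tmul q x => rw [TensorProduct.smul_tmul', he', he', smul_eq_mul]; ring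
    | add a b iha ihb => simp only [smul_add, map_add, iha, ihb, mul_add]
  have hπsurj : Function.Surjective π := by
    intro z
    induction z using TensorProduct.induction_on with
    | zero => exact ⟨0, map_zero π⟩
    | tmul b c =>
      obtain ⟨q, rfl⟩ := P'.algebraMap_surjective b
      obtain ⟨x, rfl⟩ := Algebra.Extension.Cotangent.mk_surjective c
      exact ⟨q ⊗ₜ x, rfl⟩
    | add a b ha hb =>
      obtain ⟨va, rfl⟩ := ha
      obtain ⟨vb, rfl⟩ := hb
      exact ⟨va + vb, map_add π va vb⟩
  rw [injective_iff_map_eq_zero]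
  intro z hz
  obtain ⟨w, rfl⟩ := hπsurj z
  obtain ⟨hw, hw'⟩ := hCπ w
  rw [hw'] at hz
  have hsq : e w ∈ P'.ker ^ 2 := (Algebra.Extension.Cotangent.mk_eq_zero_iff _).1 hz
  rw [pow_two] at hsq
  have key : ∀ y ∈ P'.ker * P'.ker, ∃ v, e v = y ∧ π v = 0 := by
    intro y hy
    refine Submodule.mul_induction_on hy (fun a ha b hb => ?_) fun a b ha hb => ?_
    · obtain ⟨v, rfl⟩ := hrange b hb
      refine ⟨a • v, hesmul a v, ?_⟩
      rw [hπsmul, show algebraMap P'.Ring S' a = 0 from ha, zero_smul]
    · obtain ⟨va, rfl, ha'⟩ := ha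
      obtain ⟨vb, rfl, hb'⟩ := hb
      exact ⟨va + vb, map_add e va vb, by rw [map_add, ha', hb', add_zero]⟩
  obtain ⟨v, hv, hv'⟩ := key _ hsq
  rwa [← he hv]

end Extension

theorem lTensor_pushout_injective {R R' P Q : Type u} [CommRing R] [CommRing R'] [CommRing P] [CommRing Q]
    [Algebra R R'] [Algebra R P] [Algebra P Q] [Algebra R' Q] [Algebra R Q] [IsScalarTower R P Q]
    [IsScalarTower R R' Q] [Algebra.IsPushout R R' P Q] (I : Ideal P)
    (h : Function.Injective ((I.subtype.restrictScalars R).lTensor R')) :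
    Function.Injective (I.subtype.lTensor Q) := by
  let eI := Algebra.IsPushout.cancelBaseChange R R' P Q I
  let eP := Algebra.IsPushout.cancelBaseChange R R' P Q P
  have hsq : ∀ z : R' ⊗[R] I,
      (I.subtype.lTensor Q) (eI.symm z) = eP.symm ((I.subtype.restrictScalars R).lTensor R' z) := by
    intro z
    induction z using TensorProduct.induction_on with
    | zero => simp only [map_zero]
    | tmul r x =>
      simp only [eI, eP, Algebra.IsPushout.cancelBaseChange_symm_tmul, LinearMap.lTensor_tmul]
      rfl
    | add a b ha hb => simp only [map_add, ha, hb]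
  intro x y e
  obtain ⟨x, rfl⟩ := eI.symm.surjective x
  obtain ⟨y, rfl⟩ := eI.symm.surjective y
  rw [hsq, hsq] at e
  exact congrArg eI.symm (h (eP.symm.injective e))

section Generators

variable {R S R' S' : Type u} [CommRing R] [CommRing S] [CommRing R'] [CommRing S'] [Algebra R S]
  [Algebra R' S'] [Algebra R R'] [Algebra S S'] [Algebra R S'] [IsScalarTower R R' S'] [IsScalarTower R S S']
  {ι : Type u} (G : Algebra.Generators R S ι) (G' : Algebra.Generators R' S' ι)
  (h : ∀ i, G'.val i = algebraMap S S' (G.val i))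

/-- The map of presentations with the same variables. -/
noncomputable abbrev hom : G.toExtension.Hom G'.toExtension := (NLCx.sameVarsHom G G' h).toExtensionHom

theorem hom_X (i : ι) :
    (hom G G' h).toRingHom (MvPolynomial.X i : MvPolynomial ι R) = (MvPolynomial.X i : MvPolynomial ι R') :=
  MvPolynomial.aeval_X (NLCx.sameVarsHom G G' h).val i

theorem hom_C (r : R) : (hom G G' h).toRingHom (MvPolynomial.C r : MvPolynomial ι R) =
    (MvPolynomial.C (algebraMap R R' r) : MvPolynomial ι R') :=
  MvPolynomial.aeval_C (NLCx.sameVarsHom G G' h).val r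

theorem hom_eq_map : (hom G G' h).toRingHom = MvPolynomial.map (algebraMap R R') := by
  refine MvPolynomial.ringHom_ext (fun r => ?_) fun i => ?_
  · exact (hom_C G G' h r).trans (MvPolynomial.map_C _ r).symm
  · exact (hom_X G G' h i).trans (MvPolynomial.map_X _ i).symm

theorem liftBaseChange_cotangentSpace_bijective :
    Function.Bijective (LinearMap.liftBaseChange S' (Algebra.Extension.CotangentSpace.map (hom G G' h))) := by
  let b := G.cotangentSpaceBasis.baseChange S'
  have : LinearMap.liftBaseChange S' (Algebra.Extension.CotangentSpace.map (hom G G' h)) =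
      (b.equiv G'.cotangentSpaceBasis (Equiv.refl ι)).toLinearMap := by
    refine b.ext fun i => ?_
    simp only [b, Module.Basis.baseChange_apply, LinearMap.liftBaseChange_tmul, one_smul,
      LinearEquiv.coe_coe]
    rw [show (1 : S') ⊗ₜ[S] G.cotangentSpaceBasis i = b i by simp [b], Module.Basis.equiv_apply,
      Algebra.Generators.cotangentSpaceBasis_apply, Algebra.Generators.cotangentSpaceBasis_apply]
    refine (Algebra.Extension.CotangentSpace.map_tmul (hom G G' h) 1 _).trans ?_
    rw [map_one]
    congr 2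
    exact hom_X G G' h i
  rw [this]
  exact LinearEquiv.bijective _

theorem ker_eq_map [Algebra.IsPushout R R' S S'] :
    G'.toExtension.ker = G.toExtension.ker.map (hom G G' h).toRingHom := by
  haveI : Algebra.IsPushout R S R' S' := Algebra.IsPushout.symm inferInstance
  set J := G.toExtension.ker.map (hom G G' h).toRingHom with hJ
  let mk := Ideal.Quotient.mk J
  let g : R' →ₐ[R] MvPolynomial ι R' ⧸ J :=
    { mk.comp (MvPolynomial.C) with commutes' := fun r => rfl }
  let k : S →ₐ[R] MvPolynomial ι R' ⧸ J :=
    { RingHom.liftOfRightInverse (algebraMap G.toExtension.Ring S) G.toExtension.σ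
        G.toExtension.algebraMap_σ ⟨mk.comp (hom G G' h).toRingHom, fun x hx =>
          Ideal.Quotient.eq_zero_iff_mem.2 (Ideal.mem_map_of_mem _ hx)⟩ with
      commutes' := fun r => by
        change RingHom.liftOfRightInverse _ _ _ _ (algebraMap R S r) = _
        rw [IsScalarTower.algebraMap_apply R G.toExtension.Ring S, RingHom.liftOfRightInverse_comp_apply]
        exact congrArg mk (hom_C G G' h r) }
  have hk : ∀ x, k (algebraMap G.toExtension.Ring S x) = mk ((hom G G' h).toRingHom x) := fun x =>
    RingHom.liftOfRightInverse_comp_apply _ _ _ _ x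
  let ψ := Algebra.pushoutDesc S' k g fun _ _ => mul_comm _ _
  have hψ : ∀ x : MvPolynomial ι R', ψ (MvPolynomial.aeval G'.val x) = mk x := by
    intro x
    induction x using MvPolynomial.induction_on with
    | C r =>
      rw [MvPolynomial.aeval_C, Algebra.pushoutDesc_right]
      rfl
    | add p q hp hq => simp only [map_add, hp, hq]; exact (map_add mk p q).symm
    | mul_X p i hp =>
      rw [map_mul, map_mul, hp, MvPolynomial.aeval_X, h, Algebra.pushoutDesc_left,
        show G.val i = algebraMap G.toExtension.Ring S (MvPolynomial.X i) from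
          ((G.algebraMap_apply _).trans (MvPolynomial.aeval_X G.val i)).symm]
      erw [hk, hom_X]
      exact (map_mul mk _ _).symm
  refine le_antisymm (fun x hx => ?_) (Ideal.map_le_iff_le_comap.2 fun x hx => map_mem_ker _ ⟨x, hx⟩)
  rw [← Ideal.Quotient.eq_zero_iff_mem]
  have h0 : MvPolynomial.aeval G'.val x = 0 := (G'.algebraMap_apply x).symm.trans hx
  exact (hψ x).symm.trans (by rw [h0, map_zero])

theorem liftBaseChange_cotangent_bijective [Algebra.IsPushout R R' S S']
    (hinj : Function.Injective
      (((G.toExtension.ker.subtype).restrictScalars R).lTensor R')) :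
    Function.Bijective (LinearMap.liftBaseChange S' (Algebra.Extension.Cotangent.map (hom G G' h))) := by
  refine ⟨?_, liftBaseChange_cotangent_surjective _ (ker_eq_map G G' h)⟩
  letI : Algebra (MvPolynomial ι R) (MvPolynomial ι R') := MvPolynomial.algebraMvPolynomial
  haveI : Algebra.IsPushout R R' (MvPolynomial ι R) (MvPolynomial ι R') := inferInstance
  refine @liftBaseChange_cotangent_injective R S R' S' _ _ _ _ _ _ _ _ _ _ _ _ _ (hom G G' h)
    (MvPolynomial.algebraMvPolynomial) (fun x => (RingHom.congr_fun (hom_eq_map G G' h) x).symm)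
    (ker_eq_map G G' h) ?_
  have hP := @lTensor_pushout_injective R R' (MvPolynomial ι R) (MvPolynomial ι R') _ _ inferInstance
    inferInstance _ inferInstance MvPolynomial.algebraMvPolynomial inferInstance
    inferInstance inferInstance inferInstance inferInstance
  exact hP G.toExtension.ker hinj

theorem lTensor_ker_injective_of_flat_base (P : Algebra.Extension.{u} R S) [Module.Flat R R'] :
    Function.Injective ((P.ker.subtype.restrictScalars R).lTensor R') :=
  Module.Flat.lTensor_preserves_injective_linearMap _ Subtype.val_injective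

theorem lTensor_ker_injective_of_flat (P : Algebra.Extension.{u} R S) [Module.Flat R S] :
    Function.Injective ((P.ker.subtype.restrictScalars R).lTensor R') := by
  refine LinearMap.lTensor_injective_of_exact_of_flat
    ((IsScalarTower.toAlgHom R P.Ring S).toLinearMap) P.algebraMap_surjective _ Subtype.val_injective
    (fun x => ⟨fun hx => ⟨⟨x, hx⟩, rfl⟩, ?_⟩) R'
  rintro ⟨y, rfl⟩
  exact y.2

end Generators

end Groth.Agent.Lib.NLSheaf.BaseChange
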