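import Groth.Prelude.Def_SheafNL
import Mathlib.RingTheory.Etale.Kaehler
import Mathlib.RingTheory.Kaehler.JacobiZariski
import Mathlib.RingTheory.Etale.Basic

/-! The `H^{-1}` of the naive cotangent complex on affine chart pairs: functoriality and localisation. -/

set_option autoImplicit false
set_option linter.style.haveILetI false

universe u

open CategoryTheory AlgebraicGeometry Opposite TopologicalSpace TensorProduct

namespace Groth.Agent.Lib.NLSheaf.Chart

section Algebra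

variable {R₁ R₂ R₃ S₁ S₂ S₃ : Type u} [CommRing R₁] [CommRing R₂] [CommRing R₃] [CommRing S₁] [CommRing S₂]
  [CommRing S₃] [Algebra R₁ R₂] [Algebra R₂ R₃] [Algebra R₁ R₃] [IsScalarTower R₁ R₂ R₃]
  [Algebra S₁ S₂] [Algebra S₂ S₃] [Algebra S₁ S₃] [IsScalarTower S₁ S₂ S₃]
  [Algebra R₁ S₁] [Algebra R₂ S₂] [Algebra R₃ S₃] [Algebra R₁ S₂] [Algebra R₂ S₃] [Algebra R₁ S₃]
  [IsScalarTower R₁ R₂ S₂] [IsScalarTower R₁ S₁ S₂] [IsScalarTower R₂ R₃ S₃] [IsScalarTower R₂ S₂ S₃]
  [IsScalarTower R₁ R₃ S₃] [IsScalarTower R₁ S₁ S₃] [IsScalarTower R₁ S₂ S₃] [IsScalarTower R₁ R₂ S₃]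

theorem map_map (x : Algebra.H1Cotangent R₁ S₁) :
    Algebra.H1Cotangent.map R₂ R₃ S₂ S₃ (Algebra.H1Cotangent.map R₁ R₂ S₁ S₂ x) =
      Algebra.H1Cotangent.map R₁ R₃ S₁ S₃ x := by
  rw [Algebra.H1Cotangent.map, Algebra.H1Cotangent.map, Algebra.H1Cotangent.map,
    ← Algebra.Extension.H1Cotangent.map_comp_apply]
  exact LinearMap.congr_fun (Algebra.Extension.H1Cotangent.map_eq _ _) x

/-- Inverting elements of the base does not change `H^{-1}` if they are already inverted in the algebra. -/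
theorem bijective_map_of_isLocalization {A A' B : Type u} [CommRing A] [CommRing A'] [CommRing B]
    [Algebra A A'] (M : Submonoid A) [IsLocalization M A'] [Algebra A' B] [Algebra A B]
    [IsScalarTower A A' B] : Function.Bijective (Algebra.H1Cotangent.map A A' B B) := by
  haveI hA : Algebra.FormallyEtale A A' := Algebra.FormallyEtale.of_isLocalization (M := M) (Rₘ := A')
  refine ⟨?_, fun y => (Algebra.H1Cotangent.exact_map_δ A A' B y).1 (Subsingleton.elim _ _)⟩
  let P := Algebra.Generators.self A A'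
  let Q := Algebra.Generators.self A' B
  have hd : Function.Bijective (P.toExtension.cotangentComplex) := by
    refine ⟨(Algebra.Extension.subsingleton_h1Cotangent P.toExtension).1
      (inferInstanceAs (Subsingleton (Algebra.H1Cotangent A A'))), fun y => ?_⟩
    exact (P.toExtension.exact_cotangentComplex_toKaehler y).1 (Subsingleton.elim _ _)
  have hdB : Function.Injective (P.toExtension.cotangentComplex.baseChange B) := by
    refine Function.Bijective.injective ?_
    rw [show ⇑(P.toExtension.cotangentComplex.baseChange B) =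
      ⇑(P.toExtension.cotangentComplex.lTensor B) from rfl]
    exact (LinearEquiv.lTensor B (LinearEquiv.ofBijective _ hd)).bijective
  have hinj : Function.Injective (Algebra.Extension.H1Cotangent.map (Q.ofComp P).toExtensionHom) := by
    rw [injective_iff_map_eq_zero]
    rintro ⟨x, hx⟩ h
    have h' : Algebra.Extension.Cotangent.map (Q.ofComp P).toExtensionHom x = 0 := congrArg Subtype.val h
    obtain ⟨z, rfl⟩ := (Algebra.Generators.Cotangent.exact Q P x).1 h'
    have hz : (P.toExtension.cotangentComplex.baseChange B) z = 0 := by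
      refine Algebra.Generators.CotangentSpace.map_toComp_injective Q P ?_
      rw [map_zero, ← LinearMap.comp_apply, Algebra.Generators.H1Cotangent.map_comp_cotangentComplex_baseChange]
      exact hx
    obtain rfl : z = 0 := hdB (hz.trans (map_zero _).symm)
    exact Subtype.ext (map_zero _)
  let e := Algebra.Generators.H1Cotangent.equiv (Algebra.Generators.self A B) (Q.comp P)
  intro x y hxy
  refine e.injective (hinj ?_)
  have key : ∀ z, Algebra.Extension.H1Cotangent.map (Q.ofComp P).toExtensionHom (e z) =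
      Algebra.H1Cotangent.map A A' B B z := fun z => by
    change Algebra.Extension.H1Cotangent.map _ (Algebra.Extension.H1Cotangent.map _ z) = _
    rw [← Algebra.Extension.H1Cotangent.map_comp_apply, Algebra.H1Cotangent.map]
    exact LinearMap.congr_fun (Algebra.Extension.H1Cotangent.map_eq _ _) z
  rw [key, key]
  exact hxy


theorem map_id' {R S : Type u} [CommRing R] [CommRing S] [Algebra R S] [iR : Algebra R R] [iS : Algebra S S]
    (hR : ∀ r : R, algebraMap R R r = r) (hS : ∀ r : S, algebraMap S S r = r) [@IsScalarTower R R S iR.toSMul _ _]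
    [@IsScalarTower R S S _ iS.toSMul _] (x : Algebra.H1Cotangent R S) : Algebra.H1Cotangent.map R R S S x = x := by
  obtain rfl : iR = Algebra.id R := Algebra.algebra_ext _ _ hR
  obtain rfl : iS = Algebra.id S := Algebra.algebra_ext _ _ hS
  rw [Algebra.H1Cotangent.map, Algebra.Extension.H1Cotangent.map_eq _ (Algebra.Extension.Hom.id _),
    Algebra.Extension.H1Cotangent.map_id]
  rfl

theorem map_smul_map {R R' S S' : Type u} [CommRing R] [CommRing R'] [CommRing S] [CommRing S']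
    [Algebra R S] [Algebra R' S'] [Algebra R R'] [Algebra R S'] [IsScalarTower R R' S'] [Algebra S S']
    [IsScalarTower R S S'] (φ : Algebra.H1Cotangent R S →+ Algebra.H1Cotangent R' S')
    (a : S) (x : Algebra.H1Cotangent R S) (hφ : φ = (Algebra.H1Cotangent.map R R' S S').toAddMonoidHom := by rfl) :
    φ (a • x) = algebraMap S S' a • φ x := by
  subst hφ
  exact ((Algebra.H1Cotangent.map R R' S S').map_smul a x).trans (IsScalarTower.algebraMap_smul S' a _).symm

theorem algebraMap_smul_eq {R S T : Type u} [CommRing R] [CommRing S] [CommRing T] [Algebra R T]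
    [Algebra S T] (a : S) (y : Algebra.H1Cotangent R T) : algebraMap S T a • y = a • y :=
  IsScalarTower.algebraMap_smul T a y

/-- Two ways of comparing localised `H^{-1}`: denominators of sections and of equalities. -/
theorem map_surj_and_exists_of_eq {R S T : Type u} [CommRing R] [CommRing S] [CommRing T]
    [Algebra R S] [Algebra R T] [Algebra S T] [IsScalarTower R S T] (M : Submonoid S)
    [IsLocalization M T] [iR : Algebra R R] (hR : ∀ r : R, algebraMap R R r = r) [@IsScalarTower R R T iR.toSMul _ _] :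
    (∀ y : Algebra.H1Cotangent R T, ∃ (s : M) (x : Algebra.H1Cotangent R S),
        Algebra.H1Cotangent.map R R S T x = (s : S) • y) ∧
      ∀ x x' : Algebra.H1Cotangent R S,
        Algebra.H1Cotangent.map R R S T x = Algebra.H1Cotangent.map R R S T x' →
          ∃ s : M, (s : S) • x = (s : S) • x' := by
  obtain rfl : iR = Algebra.id R := Algebra.algebra_ext _ _ hR
  refine ⟨fun y => ?_, fun x x' h => ?_⟩
  · obtain ⟨⟨x, s⟩, hs⟩ := IsLocalizedModule.surj M (Algebra.H1Cotangent.map R R S T) y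
    exact ⟨s, x, hs.symm⟩
  · exact IsLocalizedModule.exists_of_eq (S := M) h

/-- `bijective_map_of_isLocalization` for a given algebra structure of `B` over itself. -/
theorem bijective_map_of_isLocalization' {A A' B : Type u} [CommRing A] [CommRing A'] [CommRing B]
    [Algebra A A'] (M : Submonoid A) [IsLocalization M A'] [Algebra A' B] [Algebra A B]
    [IsScalarTower A A' B] [iB : Algebra B B] (hB : ∀ b : B, algebraMap B B b = b)
    [@IsScalarTower A B B _ iB.toSMul _] : Function.Bijective (Algebra.H1Cotangent.map A A' B B) := by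
  obtain rfl : iB = Algebra.id B := Algebra.algebra_ext _ _ hB
  exact bijective_map_of_isLocalization M

end Algebra

section Scheme

variable {X Y : Scheme.{u}}

/-- An affine chart pair of a morphism. -/
structure Pair (f : X ⟶ Y) where
  /-- source -/
  U : X.affineOpens
  /-- target -/
  V : Y.affineOpens
  e : (U : X.Opens) ≤ f ⁻¹ᵁ (V : Y.Opens)

variable {f : X ⟶ Y}

instance : Preorder (Pair f) where
  le p q := (p.U : X.Opens) ≤ q.U ∧ (p.V : Y.Opens) ≤ q.V
  le_refl _ := ⟨le_rfl, le_rfl⟩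
  le_trans _ _ _ h h' := ⟨h.1.trans h'.1, h.2.trans h'.2⟩

/-- `H^{-1}` of a pair. -/
abbrev H (p : Pair f) : Type u := NLCx.ChartH1 f p.U p.V p.e

/-- Restriction to a smaller pair. -/
noncomputable def res {p q : Pair f} (h : q ≤ p) : H p →+ H q := NLCx.chartRes p.e q.e h.1 h.2

theorem res_res {p q r : Pair f} (h : q ≤ p) (h' : r ≤ q) (h'' : r ≤ p) (x : H p) :
    res h' (res h x) = res h'' x := by
  letI := (f.appLE (p.V : Y.Opens) (p.U : X.Opens) p.e).hom.toAlgebra
  letI := (f.appLE (q.V : Y.Opens) (q.U : X.Opens) q.e).hom.toAlgebra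
  letI := (f.appLE (r.V : Y.Opens) (r.U : X.Opens) r.e).hom.toAlgebra
  letI := (f.appLE (p.V : Y.Opens) (q.U : X.Opens) (h.1.trans p.e)).hom.toAlgebra
  letI := (f.appLE (p.V : Y.Opens) (r.U : X.Opens) (h''.1.trans p.e)).hom.toAlgebra
  letI := (f.appLE (q.V : Y.Opens) (r.U : X.Opens) (h'.1.trans q.e)).hom.toAlgebra
  letI := (X.presheaf.map (homOfLE h.1).op).hom.toAlgebra
  letI := (X.presheaf.map (homOfLE h'.1).op).hom.toAlgebra
  letI := (X.presheaf.map (homOfLE h''.1).op).hom.toAlgebra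
  letI := (Y.presheaf.map (homOfLE h.2).op).hom.toAlgebra
  letI := (Y.presheaf.map (homOfLE h'.2).op).hom.toAlgebra
  letI := (Y.presheaf.map (homOfLE h''.2).op).hom.toAlgebra
  have t : ∀ {a b c : CommRingCat.{u}} (g : a ⟶ b) (k : b ⟶ c) (l : a ⟶ c), g ≫ k = l →
      l.hom = k.hom.comp g.hom := fun g k l h => by rw [← h, CommRingCat.hom_comp]
  haveI : IsScalarTower Γ(Y, (p.V : Y.Opens)) Γ(Y, (q.V : Y.Opens)) Γ(Y, (r.V : Y.Opens)) :=
    .of_algebraMap_eq' (t _ _ _ (by rw [← Functor.map_comp]; rfl))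
  haveI : IsScalarTower Γ(X, (p.U : X.Opens)) Γ(X, (q.U : X.Opens)) Γ(X, (r.U : X.Opens)) :=
    .of_algebraMap_eq' (t _ _ _ (by rw [← Functor.map_comp]; rfl))
  haveI : IsScalarTower Γ(Y, (p.V : Y.Opens)) Γ(Y, (q.V : Y.Opens)) Γ(X, (q.U : X.Opens)) :=
    .of_algebraMap_eq' (t _ _ _ (Scheme.Hom.map_appLE _ _ _))
  haveI : IsScalarTower Γ(Y, (p.V : Y.Opens)) Γ(X, (p.U : X.Opens)) Γ(X, (q.U : X.Opens)) :=
    .of_algebraMap_eq' (t _ _ _ (Scheme.Hom.appLE_map _ _ _))
  haveI : IsScalarTower Γ(Y, (q.V : Y.Opens)) Γ(Y, (r.V : Y.Opens)) Γ(X, (r.U : X.Opens)) :=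
    .of_algebraMap_eq' (t _ _ _ (Scheme.Hom.map_appLE _ _ _))
  haveI : IsScalarTower Γ(Y, (q.V : Y.Opens)) Γ(X, (q.U : X.Opens)) Γ(X, (r.U : X.Opens)) :=
    .of_algebraMap_eq' (t _ _ _ (Scheme.Hom.appLE_map _ _ _))
  haveI : IsScalarTower Γ(Y, (p.V : Y.Opens)) Γ(Y, (r.V : Y.Opens)) Γ(X, (r.U : X.Opens)) :=
    .of_algebraMap_eq' (t _ _ _ (Scheme.Hom.map_appLE _ _ _))
  haveI : IsScalarTower Γ(Y, (p.V : Y.Opens)) Γ(X, (p.U : X.Opens)) Γ(X, (r.U : X.Opens)) :=
    .of_algebraMap_eq' (t _ _ _ (Scheme.Hom.appLE_map _ _ _))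
  haveI : IsScalarTower Γ(Y, (p.V : Y.Opens)) Γ(X, (q.U : X.Opens)) Γ(X, (r.U : X.Opens)) :=
    .of_algebraMap_eq' (t _ _ _ (Scheme.Hom.appLE_map _ _ _))
  haveI : IsScalarTower Γ(Y, (p.V : Y.Opens)) Γ(Y, (q.V : Y.Opens)) Γ(X, (r.U : X.Opens)) :=
    .of_algebraMap_eq' (t _ _ _ (Scheme.Hom.map_appLE _ _ _))
  exact map_map (R₂ := Γ(Y, (q.V : Y.Opens))) (S₂ := Γ(X, (q.U : X.Opens))) x

theorem res_self {p : Pair f} (h : p ≤ p) (x : H p) : res h x = x := by
  letI := (f.appLE (p.V : Y.Opens) (p.U : X.Opens) p.e).hom.toAlgebra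
  have hX : ∀ a, (X.presheaf.map (homOfLE h.1).op).hom a = a := fun a => by
    rw [show (homOfLE h.1).op = 𝟙 _ from Subsingleton.elim _ _, X.presheaf.map_id]; rfl
  have hY : ∀ a, (Y.presheaf.map (homOfLE h.2).op).hom a = a := fun a => by
    rw [show (homOfLE h.2).op = 𝟙 _ from Subsingleton.elim _ _, Y.presheaf.map_id]; rfl
  letI iX := (X.presheaf.map (homOfLE h.1).op).hom.toAlgebra
  letI iY := (Y.presheaf.map (homOfLE h.2).op).hom.toAlgebra
  haveI : @IsScalarTower Γ(Y, (p.V : Y.Opens)) Γ(Y, (p.V : Y.Opens)) Γ(X, (p.U : X.Opens)) iY.toSMul _ _ :=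
    .of_algebraMap_eq fun a => (congrArg _ (hY a)).symm
  haveI : @IsScalarTower Γ(Y, (p.V : Y.Opens)) Γ(X, (p.U : X.Opens)) Γ(X, (p.U : X.Opens)) _ iX.toSMul _ :=
    .of_algebraMap_eq fun a => (hX _).symm
  exact map_id' (hR := hY) (hS := hX) x

theorem res_smul {p q : Pair f} (h : q ≤ p) (a : Γ(X, (p.U : X.Opens))) (x : H p) :
    res h (a • x) = (X.presheaf.map (homOfLE h.1).op).hom a • res h x := by
  letI := (f.appLE (p.V : Y.Opens) (p.U : X.Opens) p.e).hom.toAlgebra
  letI := (f.appLE (q.V : Y.Opens) (q.U : X.Opens) q.e).hom.toAlgebra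
  letI := (X.presheaf.map (homOfLE h.1).op).hom.toAlgebra
  letI := (f.appLE (p.V : Y.Opens) (q.U : X.Opens) (h.1.trans p.e)).hom.toAlgebra
  letI := (Y.presheaf.map (homOfLE h.2).op).hom.toAlgebra
  haveI : IsScalarTower Γ(Y, (p.V : Y.Opens)) Γ(Y, (q.V : Y.Opens)) Γ(X, (q.U : X.Opens)) :=
    .of_algebraMap_eq' (by
      change (f.appLE _ _ _).hom = (f.appLE _ _ _).hom.comp (Y.presheaf.map _).hom
      rw [← CommRingCat.hom_comp, Scheme.Hom.map_appLE])
  haveI : IsScalarTower Γ(Y, (p.V : Y.Opens)) Γ(X, (p.U : X.Opens)) Γ(X, (q.U : X.Opens)) :=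
    .of_algebraMap_eq' (by
      change (f.appLE _ _ _).hom = (X.presheaf.map _).hom.comp (f.appLE _ _ _).hom
      rw [← CommRingCat.hom_comp, Scheme.Hom.appLE_map])
  exact map_smul_map (res h) a x

/-- The pair obtained by a basic open of the source. -/
noncomputable def Pair.basic (p : Pair f) (g : Γ(X, (p.U : X.Opens))) : Pair f :=
  ⟨X.affineBasicOpen g, p.V, (X.basicOpen_le g).trans p.e⟩

theorem Pair.basic_le (p : Pair f) (g : Γ(X, (p.U : X.Opens))) : p.basic g ≤ p :=
  ⟨X.basicOpen_le g, le_rfl⟩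

/-- The pair obtained by a basic open of the target. -/
noncomputable def Pair.baseBasic (p : Pair f) (g : Γ(Y, (p.V : Y.Opens)))
    (hg : (p.U : X.Opens) ≤ f ⁻¹ᵁ Y.basicOpen g) : Pair f := ⟨p.U, Y.affineBasicOpen g, hg⟩

theorem Pair.baseBasic_le (p : Pair f) (g : Γ(Y, (p.V : Y.Opens)))
    (hg : (p.U : X.Opens) ≤ f ⁻¹ᵁ Y.basicOpen g) : p.baseBasic g hg ≤ p :=
  ⟨le_rfl, Y.basicOpen_le g⟩

theorem res_baseBasic_bijective (p : Pair f) (g : Γ(Y, (p.V : Y.Opens)))
    (hg : (p.U : X.Opens) ≤ f ⁻¹ᵁ Y.basicOpen g) :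
    Function.Bijective (res (p.baseBasic_le g hg)) := by
  letI := (f.appLE (p.V : Y.Opens) (p.U : X.Opens) p.e).hom.toAlgebra
  letI := (f.appLE (Y.basicOpen g) (p.U : X.Opens) hg).hom.toAlgebra
  letI := (Y.presheaf.map (homOfLE (Y.basicOpen_le g)).op).hom.toAlgebra
  letI iX := (X.presheaf.map (homOfLE (le_refl (p.U : X.Opens))).op).hom.toAlgebra
  have hX : ∀ a, (X.presheaf.map (homOfLE (le_refl (p.U : X.Opens))).op).hom a = a := fun a => by
    rw [show (homOfLE (le_refl (p.U : X.Opens))).op = 𝟙 _ from Subsingleton.elim _ _, X.presheaf.map_id]; rfl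
  haveI : IsLocalization.Away g Γ(Y, Y.basicOpen g) := p.V.2.isLocalization_basicOpen g
  haveI : IsScalarTower Γ(Y, (p.V : Y.Opens)) Γ(Y, Y.basicOpen g) Γ(X, (p.U : X.Opens)) :=
    .of_algebraMap_eq' (by
      change (f.appLE _ _ _).hom = (f.appLE _ _ _).hom.comp (Y.presheaf.map _).hom
      rw [← CommRingCat.hom_comp, Scheme.Hom.map_appLE])
  haveI : @IsScalarTower Γ(Y, (p.V : Y.Opens)) Γ(X, (p.U : X.Opens)) Γ(X, (p.U : X.Opens)) _ iX.toSMul _ :=
    .of_algebraMap_eq fun a => (hX _).symm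
  exact bijective_map_of_isLocalization' (A' := Γ(Y, Y.basicOpen g)) (Submonoid.powers g) hX

/-- The `H^{-1}` of a basic open is the localisation: sections up to powers of `g`. -/
theorem res_basic_surj_and_exists_of_eq (p : Pair f) (g : Γ(X, (p.U : X.Opens))) :
    (∀ y : H (p.basic g), ∃ (n : ℕ) (x : H p), res (p.basic_le g) x =
        ((X.presheaf.map (homOfLE (p.basic_le g).1).op).hom (g ^ n) : Γ(X, ((p.basic g).U : X.Opens))) • y) ∧
      ∀ x x' : H p, res (p.basic_le g) x = res (p.basic_le g) x' → ∃ n : ℕ, g ^ n • x = g ^ n • x' := by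
  letI := (f.appLE (p.V : Y.Opens) (p.U : X.Opens) p.e).hom.toAlgebra
  letI := (f.appLE (p.V : Y.Opens) (X.basicOpen g) ((X.basicOpen_le g).trans p.e)).hom.toAlgebra
  letI := (X.presheaf.map (homOfLE (X.basicOpen_le g)).op).hom.toAlgebra
  letI iY := (Y.presheaf.map (homOfLE (le_refl (p.V : Y.Opens))).op).hom.toAlgebra
  have hY : ∀ a, (Y.presheaf.map (homOfLE (le_refl (p.V : Y.Opens))).op).hom a = a := fun a => by
    rw [show (homOfLE (le_refl (p.V : Y.Opens))).op = 𝟙 _ from Subsingleton.elim _ _, Y.presheaf.map_id]; rfl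
  haveI : IsLocalization.Away g Γ(X, X.basicOpen g) := p.U.2.isLocalization_basicOpen g
  haveI : IsScalarTower Γ(Y, (p.V : Y.Opens)) Γ(X, (p.U : X.Opens)) Γ(X, X.basicOpen g) :=
    .of_algebraMap_eq' (by
      change (f.appLE _ _ _).hom = (X.presheaf.map _).hom.comp (f.appLE _ _ _).hom
      rw [← CommRingCat.hom_comp, Scheme.Hom.appLE_map])
  haveI : @IsScalarTower Γ(Y, (p.V : Y.Opens)) Γ(Y, (p.V : Y.Opens)) Γ(X, X.basicOpen g) iY.toSMul _ _ :=
    .of_algebraMap_eq fun a => (congrArg _ (hY a)).symm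
  have key := fun (a : Γ(X, (p.U : X.Opens)))
      (y : Algebra.H1Cotangent Γ(Y, (p.V : Y.Opens)) Γ(X, X.basicOpen g)) =>
    (algebraMap_smul_eq (R := Γ(Y, (p.V : Y.Opens))) (T := Γ(X, X.basicOpen g)) a y).symm
  obtain ⟨hs, he⟩ := map_surj_and_exists_of_eq (T := Γ(X, X.basicOpen g)) (Submonoid.powers g) hY
  refine ⟨fun y => ?_, fun x x' h => ?_⟩
  · obtain ⟨⟨_, n, rfl⟩, x, hx⟩ := hs y
    refine ⟨n, x, hx.trans ?_⟩
    exact key (g ^ n) y
  · obtain ⟨⟨_, n, rfl⟩, hn⟩ := he x x' h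
    exact ⟨n, hn⟩

end Scheme

end Groth.Agent.Lib.NLSheaf.Chart
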