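import Groth.Agent.Lib.NLSheaf.BaseChange

/-!
# Chain maps of two-term complexes of modules: isomorphisms, homotopies; base change of `NLCx.cx`
-/

set_option autoImplicit false

universe u

open CategoryTheory CategoryTheory.Limits TensorProduct

namespace Groth.Agent.Lib.NLSheaf.Complex

section Double

variable {A : Type u} [CommRing A] {X Y X' Y' : ModuleCat.{u} A}

/-- A map in degrees `-1, 0` as a complex. -/
noncomputable abbrev dbl (d : X ⟶ Y) : DRing.Cx A :=
  HomologicalComplex.double d (show (ComplexShape.up ℤ).Rel (-1) 0 by simp)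

/-- The degree `-1` term. -/
noncomputable abbrev i0 (d : X ⟶ Y) : (dbl d).X (-1) ≅ X := HomologicalComplex.doubleXIso₀ d _

/-- The degree `0` term. -/
noncomputable abbrev i1 (d : X ⟶ Y) : (dbl d).X 0 ≅ Y := HomologicalComplex.doubleXIso₁ d _ (by decide)

theorem isIso_of_components {d : X ⟶ Y} {d' : X' ⟶ Y'} (φ : dbl d ⟶ dbl d') (a : X ⟶ X') (b : Y ⟶ Y')
    (h0 : φ.f (-1) = (i0 d).hom ≫ a ≫ (i0 d').inv) (h1 : φ.f 0 = (i1 d).hom ≫ b ≫ (i1 d').inv)
    [IsIso a] [IsIso b] : IsIso φ := by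
  haveI : ∀ n, IsIso (φ.f n) := fun n => by
    by_cases hn : n = -1
    · subst hn; rw [h0]; infer_instance
    by_cases hn' : n = 0
    · subst hn'; rw [h1]; infer_instance
    exact (HomologicalComplex.isZero_double_X d _ n hn hn').isIso
      (HomologicalComplex.isZero_double_X d' _ n hn hn') _
  exact HomologicalComplex.Hom.isIso_of_components φ

/-- A homotopy between maps of two-term complexes. -/
theorem nonempty_homotopy {d : X ⟶ Y} {d' : X' ⟶ Y'} (φ ψ : dbl d ⟶ dbl d') (a a' : X ⟶ X') (b b' : Y ⟶ Y')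
    (h0 : φ.f (-1) = (i0 d).hom ≫ a ≫ (i0 d').inv) (h1 : φ.f 0 = (i1 d).hom ≫ b ≫ (i1 d').inv)
    (k0 : ψ.f (-1) = (i0 d).hom ≫ a' ≫ (i0 d').inv) (k1 : ψ.f 0 = (i1 d).hom ≫ b' ≫ (i1 d').inv)
    (h : Y ⟶ X') (ha : a = d ≫ h + a') (hb : b = h ≫ d' + b') : Nonempty (Homotopy φ ψ) := by
  let hm : ∀ i j : ℤ, (dbl d).X i ⟶ (dbl d').X j := fun i j =>
    if hij : i = 0 ∧ j = -1 then
      eqToHom (by rw [hij.1]) ≫ (i1 d).hom ≫ h ≫ (i0 d').inv ≫ eqToHom (by rw [hij.2])
    else 0
  have hm0 : hm 0 (-1) = (i1 d).hom ≫ h ≫ (i0 d').inv := by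
    simp only [hm, and_self, dite_true, eqToHom_refl, Category.id_comp, Category.comp_id]
  have hmz : ∀ i j, ¬ (i = 0 ∧ j = -1) → hm i j = 0 := fun i j hij => dif_neg hij
  refine ⟨⟨hm, fun i j hij => hmz i j fun ⟨hi, hj⟩ => hij (by subst hi hj; simp), fun i => ?_⟩⟩
  by_cases hi : i = -1
  · subst hi
    rw [dNext_eq hm (show (ComplexShape.up ℤ).Rel (-1) 0 by simp),
      prevD_eq hm (show (ComplexShape.up ℤ).Rel (-2) (-1) by simp), hm0, hmz _ _ (by omega), zero_comp,
      add_zero, HomologicalComplex.double_d _ _ (by decide), h0, k0, ha]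
    simp only [Category.assoc, Iso.inv_hom_id_assoc, Preadditive.add_comp, Preadditive.comp_add]
  by_cases hi' : i = 0
  · subst hi'
    rw [dNext_eq hm (show (ComplexShape.up ℤ).Rel 0 1 by simp),
      prevD_eq hm (show (ComplexShape.up ℤ).Rel (-1) 0 by simp), hm0, hmz _ _ (by omega), comp_zero,
      zero_add, HomologicalComplex.double_d _ _ (by decide), h1, k1, hb]
    simp only [Category.assoc, Iso.inv_hom_id_assoc, Preadditive.add_comp, Preadditive.comp_add]
  exact (HomologicalComplex.isZero_double_X d _ i hi hi').eq_of_src _ _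

theorem comp_f0 {X'' Y'' : ModuleCat.{u} A} {d : X ⟶ Y} {d' : X' ⟶ Y'} {d'' : X'' ⟶ Y''} (φ : dbl d ⟶ dbl d')
    (ψ : dbl d' ⟶ dbl d'') {a : X ⟶ X'} {b : X' ⟶ X''} (h : φ.f (-1) = (i0 d).hom ≫ a ≫ (i0 d').inv)
    (k : ψ.f (-1) = (i0 d').hom ≫ b ≫ (i0 d'').inv) :
    (φ ≫ ψ).f (-1) = (i0 d).hom ≫ (a ≫ b) ≫ (i0 d'').inv := by
  rw [HomologicalComplex.comp_f, h, k]
  simp only [Category.assoc, Iso.inv_hom_id_assoc]

theorem comp_f1 {X'' Y'' : ModuleCat.{u} A} {d : X ⟶ Y} {d' : X' ⟶ Y'} {d'' : X'' ⟶ Y''} (φ : dbl d ⟶ dbl d')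
    (ψ : dbl d' ⟶ dbl d'') {a : Y ⟶ Y'} {b : Y' ⟶ Y''} (h : φ.f 0 = (i1 d).hom ≫ a ≫ (i1 d').inv)
    (k : ψ.f 0 = (i1 d').hom ≫ b ≫ (i1 d'').inv) :
    (φ ≫ ψ).f 0 = (i1 d).hom ≫ (a ≫ b) ≫ (i1 d'').inv := by
  rw [HomologicalComplex.comp_f, h, k]
  simp only [Category.assoc, Iso.inv_hom_id_assoc]

theorem id_f (d : X ⟶ Y) : (𝟙 (dbl d) : dbl d ⟶ dbl d).f (-1) = (i0 d).hom ≫ 𝟙 X ≫ (i0 d).inv ∧
    (𝟙 (dbl d) : dbl d ⟶ dbl d).f 0 = (i1 d).hom ≫ 𝟙 Y ≫ (i1 d).inv := by
  constructor <;> simp

theorem hom_ext' {d : X ⟶ Y} {d' : X' ⟶ Y'} {φ ψ : dbl d ⟶ dbl d'} {a a' : X ⟶ X'} {b b' : Y ⟶ Y'}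
    (h0 : φ.f (-1) = (i0 d).hom ≫ a ≫ (i0 d').inv) (h1 : φ.f 0 = (i1 d).hom ≫ b ≫ (i1 d').inv)
    (k0 : ψ.f (-1) = (i0 d).hom ≫ a' ≫ (i0 d').inv) (k1 : ψ.f 0 = (i1 d).hom ≫ b' ≫ (i1 d').inv)
    (ha : a = a') (hb : b = b') : φ = ψ :=
  HomologicalComplex.from_double_hom_ext (by rw [h0, k0, ha]) (by rw [h1, k1, hb])

theorem isIso_ofHom {M N : Type u} [AddCommGroup M] [Module A M] [AddCommGroup N] [Module A N]
    (l : M →ₗ[A] N) (h : Function.Bijective l) : IsIso (ModuleCat.ofHom l) :=
  (LinearEquiv.ofBijective l h).toModuleIso.isIso_hom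

end Double

section NL

variable {R S R' S' : Type u} [CommRing R] [CommRing S] [CommRing R'] [CommRing S'] [Algebra R S]
  [Algebra R' S'] [Algebra R R'] [Algebra S S'] [Algebra R S'] [IsScalarTower R R' S'] [IsScalarTower R S S']
  {P : Algebra.Extension.{u} R S} {P' : Algebra.Extension.{u} R' S'}

theorem bcMap_f0 (f : P.Hom P') :
    (NLCx.bcMap (S' := S') f).f (-1) = (i0 (ModuleCat.ofHom (P.cotangentComplex.baseChange S'))).hom ≫
      ModuleCat.ofHom (LinearMap.liftBaseChange S' (Algebra.Extension.Cotangent.map f)) ≫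
        (i0 (ModuleCat.ofHom P'.cotangentComplex)).inv :=
  HomologicalComplex.mkHomFromDouble_f₀ _ _ _ _ _ _

theorem bcMap_f1 (f : P.Hom P') :
    (NLCx.bcMap (S' := S') f).f 0 = (i1 (ModuleCat.ofHom (P.cotangentComplex.baseChange S'))).hom ≫
      ModuleCat.ofHom (LinearMap.liftBaseChange S' (Algebra.Extension.CotangentSpace.map f)) ≫
        (i1 (ModuleCat.ofHom P'.cotangentComplex)).inv :=
  HomologicalComplex.mkHomFromDouble_f₁ _ _ _ _ _ _

theorem isIso_bcMap (f : P.Hom P')
    (h0 : Function.Bijective (LinearMap.liftBaseChange S' (Algebra.Extension.Cotangent.map f)))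
    (h1 : Function.Bijective (LinearMap.liftBaseChange S' (Algebra.Extension.CotangentSpace.map f))) :
    IsIso (NLCx.bcMap (S' := S') f) :=
  haveI := isIso_ofHom _ h0
  haveI := isIso_ofHom _ h1
  isIso_of_components _ _ _ (bcMap_f0 f) (bcMap_f1 f)

end NL

section SameTop

variable {R R' S : Type u} [CommRing R] [CommRing R'] [CommRing S] [Algebra R S] [Algebra R' S]
  [Algebra R R'] [IsScalarTower R R' S]
  {P : Algebra.Extension.{u} R S} {P' : Algebra.Extension.{u} R' S}

theorem map_f0 (f : P.Hom P') :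
    (NLCx.map f).f (-1) = (i0 (ModuleCat.ofHom P.cotangentComplex)).hom ≫
      ModuleCat.ofHom (Algebra.Extension.Cotangent.map f) ≫
        (i0 (ModuleCat.ofHom P'.cotangentComplex)).inv :=
  HomologicalComplex.mkHomFromDouble_f₀ _ _ _ _ _ _

theorem map_f1 (f : P.Hom P') :
    (NLCx.map f).f 0 = (i1 (ModuleCat.ofHom P.cotangentComplex)).hom ≫
      ModuleCat.ofHom (Algebra.Extension.CotangentSpace.map f) ≫
        (i1 (ModuleCat.ofHom P'.cotangentComplex)).inv :=
  HomologicalComplex.mkHomFromDouble_f₁ _ _ _ _ _ _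

theorem isIso_map (f : P.Hom P') (h0 : Function.Bijective (Algebra.Extension.Cotangent.map f))
    (h1 : Function.Bijective (Algebra.Extension.CotangentSpace.map f)) : IsIso (NLCx.map f) :=
  haveI := isIso_ofHom _ h0
  haveI := isIso_ofHom _ h1
  isIso_of_components _ _ _ (map_f0 f) (map_f1 f)

theorem bijective_of_liftBaseChange {M N : Type u} [AddCommGroup M] [Module S M] [AddCommGroup N] [Module S N]
    (l : M →ₗ[S] N) (h : Function.Bijective (LinearMap.liftBaseChange S l)) : Function.Bijective l := by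
  have e : ⇑l = ⇑(LinearMap.liftBaseChange S l) ∘ ⇑(TensorProduct.lid S M).symm := by
    funext x
    simp
  rw [e]
  exact h.comp (LinearEquiv.bijective _)

end SameTop

section Homotopy

variable {R S : Type u} [CommRing R] [CommRing S] [Algebra R S] {P P' : Algebra.Extension.{u} R S}

/-- Any two-sided pair of maps of extensions gives a homotopy equivalence of the complexes. -/
theorem exists_homotopyEquiv (f : P.Hom P') (g : P'.Hom P) :
    ∃ e : HomotopyEquiv (NLCx.cx P) (NLCx.cx P'), e.hom = NLCx.map f := by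
  have key : ∀ {P P' : Algebra.Extension.{u} R S} (f : P.Hom P') (g : P'.Hom P),
      Nonempty (Homotopy (NLCx.map f ≫ NLCx.map g) (𝟙 (NLCx.cx P))) := by
    intro P P' f g
    refine nonempty_homotopy _ _ _ (𝟙 _) _ (𝟙 _) (comp_f0 _ _ (map_f0 f) (map_f0 g))
      (comp_f1 _ _ (map_f1 f) (map_f1 g)) (id_f _).1 (id_f _).2 (ModuleCat.ofHom ((g.comp f).sub (.id P))) ?_ ?_
    · refine ModuleCat.hom_ext ?_
      have := Algebra.Extension.Cotangent.map_sub_map (g.comp f) (.id P)
      rw [Algebra.Extension.Cotangent.map_id] at this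
      refine Eq.trans ?_ (eq_add_of_sub_eq this)
      rw [Algebra.Extension.Cotangent.map_comp]
      rfl
    · refine ModuleCat.hom_ext ?_
      have := Algebra.Extension.CotangentSpace.map_sub_map (g.comp f) (.id P)
      rw [Algebra.Extension.CotangentSpace.map_id] at this
      refine Eq.trans ?_ (eq_add_of_sub_eq this)
      rw [Algebra.Extension.CotangentSpace.map_comp]
      rfl
  exact ⟨⟨NLCx.map f, NLCx.map g, (key f g).some, (key g f).some⟩, rfl⟩

end Homotopy

section SameVars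

variable {R S R' S' : Type u} [CommRing R] [CommRing S] [CommRing R'] [CommRing S'] [Algebra R S]
  [Algebra R' S'] [Algebra R R'] [Algebra S S'] [Algebra R S'] [IsScalarTower R R' S'] [IsScalarTower R S S']
  {ι : Type u} (G : Algebra.Generators R S ι) (G' : Algebra.Generators R' S' ι)
  (h : ∀ i, G'.val i = algebraMap S S' (G.val i))

theorem isIso_bcMap_sameVars [Algebra.IsPushout R R' S S']
    (hinj : Function.Injective ((G.toExtension.ker.subtype.restrictScalars R).lTensor R')) :
    IsIso (NLCx.bcMap (S' := S') (NLCx.sameVarsHom G G' h).toExtensionHom) :=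
  isIso_bcMap _ (BaseChange.liftBaseChange_cotangent_bijective G G' h hinj)
    (BaseChange.liftBaseChange_cotangentSpace_bijective G G' h)

theorem aeval_pushout_surjective [Algebra.IsPushout R R' S S'] :
    Function.Surjective (MvPolynomial.aeval (R := R') fun s : S => algebraMap S S' s) := by
  haveI : Algebra.IsPushout R S R' S' := Algebra.IsPushout.symm inferInstance
  intro x
  obtain ⟨x, rfl⟩ := (Algebra.IsPushout.equiv R S R' S').surjective x
  induction x using TensorProduct.induction_on with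
  | zero => exact ⟨0, by simp⟩
  | tmul s r =>
    refine ⟨MvPolynomial.X s * MvPolynomial.C r, ?_⟩
    rw [map_mul, MvPolynomial.aeval_X, MvPolynomial.aeval_C, Algebra.IsPushout.equiv_tmul]
  | add a b ha hb =>
    obtain ⟨pa, ha⟩ := ha
    obtain ⟨pb, hb⟩ := hb
    exact ⟨pa + pb, by rw [map_add, map_add, ha, hb]⟩

variable (R S R' S') in
/-- The base-changed generators, indexed by all elements of `S`. -/
noncomputable def selfBC [Algebra.IsPushout R R' S S'] : Algebra.Generators R' S' S :=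
  Algebra.Generators.ofSurjective (fun s : S => algebraMap S S' s) (aeval_pushout_surjective (R := R) (R' := R'))

variable (R S R' S') in
/-- From the base-changed generators to all elements of `S'`. -/
noncomputable def toSelf [Algebra.IsPushout R R' S S'] :
    (selfBC R S R' S').toExtension.Hom (Algebra.Generators.self R' S').toExtension :=
  ((selfBC R S R' S').defaultHom (Algebra.Generators.self R' S')).toExtensionHom

theorem toSelf_comp [Algebra.IsPushout R R' S S'] (x : (Algebra.Generators.self R S).toExtension.Ring) :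
    ((Algebra.Generators.self R S).defaultHom (Algebra.Generators.self R' S')).toExtensionHom.toRingHom x =
      (toSelf R S R' S').toRingHom
        ((NLCx.sameVarsHom (Algebra.Generators.self R S) (selfBC R S R' S') fun _ => rfl).toExtensionHom.toRingHom x) := by
  refine RingHom.congr_fun (f := ((Algebra.Generators.self R S).defaultHom
    (Algebra.Generators.self R' S')).toAlgHom.toRingHom) (g := ((selfBC R S R' S').defaultHom
    (Algebra.Generators.self R' S')).toAlgHom.toRingHom.comp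
    (NLCx.sameVarsHom (Algebra.Generators.self R S) (selfBC R S R' S') fun _ => rfl).toAlgHom.toRingHom) ?_ x
  refine MvPolynomial.ringHom_ext (fun r => ?_) fun i => ?_
  · rw [RingHom.comp_apply]
    simp only [AlgHom.toRingHom_eq_coe, RingHom.coe_coe]
    rw [Algebra.Generators.Hom.toAlgHom_C, Algebra.Generators.Hom.toAlgHom_C, Algebra.Generators.Hom.toAlgHom_C]
    simp
  · rw [RingHom.comp_apply]
    simp only [AlgHom.toRingHom_eq_coe, RingHom.coe_coe]
    rw [Algebra.Generators.Hom.toAlgHom_X, Algebra.Generators.Hom.toAlgHom_X]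
    rw [show (NLCx.sameVarsHom (Algebra.Generators.self R S) (selfBC R S R' S') fun _ => rfl).val i =
      MvPolynomial.X i from rfl]
    rw [Algebra.Generators.Hom.toAlgHom_X]
    rfl

theorem hom_eq_comp [Algebra.IsPushout R R' S S'] :
    ((Algebra.Generators.self R S).defaultHom (Algebra.Generators.self R' S')).toExtensionHom =
      (toSelf R S R' S').comp
        (NLCx.sameVarsHom (Algebra.Generators.self R S) (selfBC R S R' S') fun _ => rfl).toExtensionHom :=
  Algebra.Extension.Hom.ext (RingHom.ext (toSelf_comp (R := R) (S := S) (R' := R') (S' := S')))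

theorem bcMap_comp {P : Algebra.Extension.{u} R S} {P' P'' : Algebra.Extension.{u} R' S'} (f : P.Hom P')
    (g : P'.Hom P'') : NLCx.bcMap (S' := S') (g.comp f) = NLCx.bcMap (S' := S') f ≫ NLCx.map g := by
  refine hom_ext' (bcMap_f0 (g.comp f)) (bcMap_f1 (g.comp f)) (comp_f0 _ _ (bcMap_f0 f) (map_f0 g))
    (comp_f1 _ _ (bcMap_f1 f) (map_f1 g)) ?_ ?_
  · rw [← ModuleCat.ofHom_comp, LinearMap.liftBaseChange_comp, ← Algebra.Extension.Cotangent.map_comp]
  · rw [← ModuleCat.ofHom_comp, LinearMap.liftBaseChange_comp, ← Algebra.Extension.CotangentSpace.map_comp]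

theorem exists_homotopyEquiv_bcMapSelf [Algebra.IsPushout R R' S S']
    (hinj : Function.Injective
      (((Algebra.Generators.self R S).toExtension.ker.subtype.restrictScalars R).lTensor R')) :
    ∃ e : HomotopyEquiv (NLCx.bcCx (Algebra.Generators.self R S).toExtension S')
        (NLCx.cx (Algebra.Generators.self R' S').toExtension), e.hom = NLCx.bcMapSelf R S R' S' := by
  haveI := isIso_bcMap_sameVars (Algebra.Generators.self R S) (selfBC R S R' S') (fun _ => rfl) hinj
  obtain ⟨e, he⟩ := exists_homotopyEquiv (toSelf R S R' S')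
    ((Algebra.Generators.self R' S').defaultHom (selfBC R S R' S')).toExtensionHom
  refine ⟨(HomotopyEquiv.ofIso (asIso (NLCx.bcMap (S' := S')
    (NLCx.sameVarsHom (Algebra.Generators.self R S) (selfBC R S R' S') fun _ => rfl).toExtensionHom))).trans e, ?_⟩
  rw [NLCx.bcMapSelf, hom_eq_comp, bcMap_comp]
  simp [HomotopyEquiv.trans, HomotopyEquiv.ofIso, he]

end SameVars

end Groth.Agent.Lib.NLSheaf.Complex
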