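import Groth.Prelude.Def_SheafNL
import Mathlib.RingTheory.Smooth.Basic
import Mathlib.RingTheory.Unramified.Basic

/-! For a surjection `A → B` with kernel `I`, `H^{-1}(NL_{B/A}) = I/I²`, naturally. -/

set_option autoImplicit false

universe u

namespace Groth.Agent.Lib.NLSheaf.Kappa

open Algebra

variable {A B : Type u} [CommRing A] [CommRing B] [Algebra A B]

/-- The extension given by the surjection itself. -/
noncomputable abbrev ext (hs : Function.Surjective (algebraMap A B)) : Extension.{u} A B :=
  Extension.ofSurjective (Algebra.ofId A B) hs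

theorem formallySmooth_ext (hs : Function.Surjective (algebraMap A B)) :
    FormallySmooth A (ext hs).Ring :=
  inferInstanceAs (FormallySmooth A A)

theorem subsingleton_cotangentSpace (hs : Function.Surjective (algebraMap A B)) :
    Subsingleton (ext hs).CotangentSpace := by
  haveI h : Subsingleton Ω[(ext hs).Ring⁄A] := inferInstanceAs (Subsingleton Ω[A⁄A])
  constructor
  intro x y
  suffices ∀ z : (ext hs).CotangentSpace, z = 0 by rw [this x, this y]
  intro z
  induction z using TensorProduct.induction_on with
  | zero => rfl
  | tmul b m => rw [Subsingleton.elim m 0, TensorProduct.tmul_zero]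
  | add a b ha hb => rw [ha, hb, add_zero]

/-- The class of an element of the kernel in the `H^{-1}` of the surjection. -/
noncomputable def cls (hs : Function.Surjective (algebraMap A B)) (t : RingHom.ker (algebraMap A B)) :
    (ext hs).H1Cotangent :=
  ⟨Extension.Cotangent.mk (⟨t.1, t.2⟩ : (ext hs).ker),
    (subsingleton_cotangentSpace hs).elim _ _⟩

/-- The canonical map `I → H^{-1}(NL_{B/A})`. -/
noncomputable def kap (hs : Function.Surjective (algebraMap A B)) :
    RingHom.ker (algebraMap A B) →+ H1Cotangent A B :=
  haveI := formallySmooth_ext hs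
  AddMonoidHom.mk' (fun t => Extension.equivH1CotangentOfFormallySmooth (ext hs) (cls hs t))
    fun a b => by
      rw [← map_add]
      exact congrArg _ (Subtype.ext (map_add (Extension.Cotangent.mk (P := ext hs))
        (⟨a.1, a.2⟩ : (ext hs).ker) (⟨b.1, b.2⟩ : (ext hs).ker)))

theorem kap_surjective (hs : Function.Surjective (algebraMap A B)) : Function.Surjective (kap hs) := by
  haveI := formallySmooth_ext hs
  intro y
  obtain ⟨⟨c, hc⟩, rfl⟩ := (Extension.equivH1CotangentOfFormallySmooth (ext hs)).surjective y
  obtain ⟨t, rfl⟩ := Extension.Cotangent.mk_surjective c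
  exact ⟨⟨t.1, t.2⟩, rfl⟩

theorem kap_eq_zero_iff (hs : Function.Surjective (algebraMap A B)) (t : RingHom.ker (algebraMap A B)) :
    kap hs t = 0 ↔ t.1 ∈ RingHom.ker (algebraMap A B) ^ 2 := by
  haveI := formallySmooth_ext hs
  refine (LinearEquiv.map_eq_zero_iff _).trans ?_
  refine Subtype.ext_iff.trans ?_
  exact Extension.Cotangent.mk_eq_zero_iff (P := ext hs) ⟨t.1, t.2⟩

theorem kap_smul (hs : Function.Surjective (algebraMap A B)) (a : A) (t : RingHom.ker (algebraMap A B)) :
    kap hs (a • t) = algebraMap A B a • kap hs t := by
  haveI := formallySmooth_ext hs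
  change Extension.equivH1CotangentOfFormallySmooth (ext hs) (cls hs (a • t)) = _
  rw [show cls hs (a • t) = algebraMap A B a • cls hs t from Subtype.ext
    (map_smul (Extension.Cotangent.mk (P := ext hs)) (a : (ext hs).Ring) (⟨t.1, t.2⟩ : (ext hs).ker)),
    map_smul]
  rfl

theorem kap_map {A' B' : Type u} [CommRing A'] [CommRing B'] [Algebra A' B'] [Algebra A A'] [Algebra B B']
    [Algebra A B'] [IsScalarTower A A' B'] [IsScalarTower A B B']
    (hs : Function.Surjective (algebraMap A B)) (hs' : Function.Surjective (algebraMap A' B'))
    (t : RingHom.ker (algebraMap A B)) (t' : RingHom.ker (algebraMap A' B'))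
    (h : algebraMap A A' t.1 = t'.1) :
    H1Cotangent.map A A' B B' (kap hs t) = kap hs' t' := by
  haveI := formallySmooth_ext hs
  haveI := formallySmooth_ext hs'
  haveI : FormallySmooth A (Generators.self A B).toExtension.Ring :=
    Algebra.instFormallySmoothMvPolynomial B
  haveI : FormallySmooth A' (Generators.self A' B').toExtension.Ring :=
    Algebra.instFormallySmoothMvPolynomial B'
  let g : (ext hs).Hom (ext hs') :=
    { toRingHom := algebraMap A A'
      toRingHom_algebraMap := fun _ => rfl
      algebraMap_toRingHom := fun x => by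
        change algebraMap A' B' (algebraMap A A' x) = algebraMap B B' (algebraMap A B x)
        exact (IsScalarTower.algebraMap_apply A A' B' x).symm.trans (IsScalarTower.algebraMap_apply A B B' x) }
  have hg : Extension.H1Cotangent.map g (cls hs t) = cls hs' t' := by
    refine Subtype.ext ((Extension.Cotangent.map_mk g _).trans ?_)
    exact congrArg _ (Subtype.ext h)
  let l : (ext hs).Hom (Generators.self A B).toExtension :=
    { toRingHom := algebraMap A _
      toRingHom_algebraMap := fun _ => rfl
      algebraMap_toRingHom := fun x => (IsScalarTower.algebraMap_apply A _ B x).symm }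
  let l' : (ext hs').Hom (Generators.self A' B').toExtension :=
    { toRingHom := algebraMap A' _
      toRingHom_algebraMap := fun _ => rfl
      algebraMap_toRingHom := fun x => (IsScalarTower.algebraMap_apply A' _ B' x).symm }
  have e : ∀ x, Extension.equivH1CotangentOfFormallySmooth (ext hs) x = Extension.H1Cotangent.map l x :=
    fun x => LinearMap.congr_fun (Extension.H1Cotangent.equivOfFormallySmooth_toLinearMap l) x
  have e' : ∀ x, Extension.equivH1CotangentOfFormallySmooth (ext hs') x = Extension.H1Cotangent.map l' x :=
    fun x => LinearMap.congr_fun (Extension.H1Cotangent.equivOfFormallySmooth_toLinearMap l') x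
  change H1Cotangent.map A A' B B' (Extension.equivH1CotangentOfFormallySmooth (ext hs) (cls hs t)) =
    Extension.equivH1CotangentOfFormallySmooth (ext hs') (cls hs' t')
  rw [e, e', ← hg, H1Cotangent.map, ← Extension.H1Cotangent.map_comp_apply,
    ← Extension.H1Cotangent.map_comp_apply]
  exact LinearMap.congr_fun (Extension.H1Cotangent.map_eq _ _) _

end Groth.Agent.Lib.NLSheaf.Kappa
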