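import Groth.Agent.Lib.NLSheaf.Glue
import Groth.Agent.Lib.NLSheaf.Kappa
import Groth.Agent.Lib.Conormal92.Affine
import Groth.Agent.Lib.TensorMod.Dual
import Groth.Prelude.Def_Omega2
import Mathlib.AlgebraicGeometry.Morphisms.FormallyUnramified

/-! The conormal sheaf of a quasi-compact immersion is `H^{-1}(NL_{Z/X})` on chart pairs. -/

set_option autoImplicit false

universe u

open CategoryTheory AlgebraicGeometry Opposite TopologicalSpace OmegaSh

namespace Groth.Agent.Lib.NLSheaf.ConormalH1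

open Chart Conormal92.Affine Groth.Agent.Lib.TensorMod.Dual

noncomputable section

variable {Z X : Scheme.{u}} {i : Z ⟶ X}

/-- The chart pair of a chart. -/
abbrev pairW {W : X.Opens} (hW : IsChart i W) : Pair i :=
  ⟨⟨i ⁻¹ᵁ W, hW.affine_preimage⟩, ⟨W, hW.affine⟩, le_rfl⟩

theorem pairW_mono {W W' : X.Opens} (hW : IsChart i W) (hW' : IsChart i W') (h : W' ≤ W) :
    pairW hW' ≤ pairW hW := ⟨i.preimage_mono h, h⟩

theorem appLE_self (W : X.Opens) : i.appLE W (i ⁻¹ᵁ W) le_rfl = i.app W :=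
  i.appLE_eq_app

/-- The specification of the chart isomorphism. -/
def IsPhi {W : X.Opens} (hW : IsChart i W)
    (φ : Γ(Omega.conormal i, i ⁻¹ᵁ W) ≃+ H (pairW hW)) : Prop :=
  letI := (i.appLE W (i ⁻¹ᵁ W) le_rfl).hom.toAlgebra
  ∀ (hs : Function.Surjective (algebraMap Γ(X, W) Γ(Z, i ⁻¹ᵁ W))) (k : Γ(ClSub.idealMod i.ker, W))
    (hk : idealSect i.ker W k ∈ RingHom.ker (algebraMap Γ(X, W) Γ(Z, i ⁻¹ᵁ W))),
    φ (conormalSect i W k) = Kappa.kap hs ⟨idealSect i.ker W k, hk⟩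

theorem exists_phi [QuasiCompact i] {W : X.Opens} (hW : IsChart i W) : ∃ φ, IsPhi hW φ := by
  letI := (i.appLE W (i ⁻¹ᵁ W) le_rfl).hom.toAlgebra
  have halg : algebraMap Γ(X, W) Γ(Z, i ⁻¹ᵁ W) = (i.app W).hom := congrArg CommRingCat.Hom.hom (appLE_self (i := i) W)
  have hker : RingHom.ker (algebraMap Γ(X, W) Γ(Z, i ⁻¹ᵁ W)) = RingHom.ker (i.app W).hom := by rw [halg]
  have hs : Function.Surjective (algebraMap Γ(X, W) Γ(Z, i ⁻¹ᵁ W)) := by rw [halg]; exact hW.surj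
  have hmem : ∀ k, idealSect i.ker W k ∈ RingHom.ker (algebraMap Γ(X, W) Γ(Z, i ⁻¹ᵁ W)) := fun k => by
    rw [hker]; exact (exists_idealSect_iff hW.affine _).1 ⟨k, rfl⟩
  let g : Γ(ClSub.idealMod i.ker, W) →+ H (pairW hW) :=
    AddMonoidHom.mk' (fun k => Kappa.kap hs ⟨idealSect i.ker W k, hmem k⟩) fun a b => by
      rw [← map_add]
      exact congrArg _ (Subtype.ext (map_add _ a b))
  have hg : Function.Surjective g := fun y => by
    obtain ⟨⟨t, ht⟩, rfl⟩ := Kappa.kap_surjective hs y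
    obtain ⟨k, rfl⟩ := (exists_idealSect_iff hW.affine t).2 (hker ▸ ht)
    exact ⟨k, rfl⟩
  obtain ⟨hf, hzero⟩ := conormalSect_spec hW
  have h0 : ∀ k, conormalSect i W k = 0 ↔ g k = 0 := fun k => by
    rw [hzero k]
    refine Iff.trans ?_ (Kappa.kap_eq_zero_iff hs ⟨idealSect i.ker W k, hmem k⟩).symm
    exact Iff.of_eq (congrArg (fun I : Ideal Γ(X, W) => idealSect i.ker W k ∈ I ^ 2) hker.symm)
  have wd : ∀ k k', conormalSect i W k = conormalSect i W k' ↔ g k = g k' := fun k k' => by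
    rw [← sub_eq_zero, ← map_sub, h0, map_sub, sub_eq_zero]
  have hinv : ∀ m, conormalSect i W (Function.surjInv hf m) = m := Function.surjInv_eq hf
  let φ₀ : Γ(Omega.conormal i, i ⁻¹ᵁ W) →+ H (pairW hW) :=
    AddMonoidHom.mk' (fun m => g (Function.surjInv hf m)) fun a b => by
      rw [← map_add, ← wd, map_add, hinv, hinv, hinv]
  have hbij : Function.Bijective φ₀ := ⟨fun a b h => by
    rw [← hinv a, ← hinv b]; exact (wd _ _).2 h, fun y => by
    obtain ⟨k, rfl⟩ := hg y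
    exact ⟨conormalSect i W k, (wd _ _).1 (hinv _)⟩⟩
  exact ⟨AddEquiv.ofBijective φ₀ hbij, fun _ k _ => (wd _ _).1 (hinv _)⟩

variable [QuasiCompact i]

/-- The chart isomorphism. -/
def phi {W : X.Opens} (hW : IsChart i W) : Γ(Omega.conormal i, i ⁻¹ᵁ W) ≃+ H (pairW hW) :=
  (exists_phi hW).choose

theorem phi_spec {W : X.Opens} (hW : IsChart i W) : IsPhi hW (phi hW) := (exists_phi hW).choose_spec

theorem phi_res {W W' : X.Opens} (hW : IsChart i W) (hW' : IsChart i W') (h : W' ≤ W)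
    (m : Γ(Omega.conormal i, i ⁻¹ᵁ W)) :
    res (pairW_mono hW hW' h) (phi hW m) = phi hW' (rs (Omega.conormal i) (i.preimage_mono h) m) := by
  letI := (i.appLE W (i ⁻¹ᵁ W) le_rfl).hom.toAlgebra
  letI := (i.appLE W' (i ⁻¹ᵁ W') le_rfl).hom.toAlgebra
  letI := (i.appLE W (i ⁻¹ᵁ W') (i.preimage_mono h)).hom.toAlgebra
  letI := (Z.presheaf.map (homOfLE (i.preimage_mono h)).op).hom.toAlgebra
  letI := (X.presheaf.map (homOfLE h).op).hom.toAlgebra
  haveI : IsScalarTower Γ(X, W) Γ(X, W') Γ(Z, i ⁻¹ᵁ W') :=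
    .of_algebraMap_eq' (by
      change (i.appLE _ _ _).hom = (i.appLE _ _ _).hom.comp (X.presheaf.map _).hom
      rw [← CommRingCat.hom_comp, Scheme.Hom.map_appLE])
  haveI : IsScalarTower Γ(X, W) Γ(Z, i ⁻¹ᵁ W) Γ(Z, i ⁻¹ᵁ W') :=
    .of_algebraMap_eq' (by
      change (i.appLE _ _ _).hom = (Z.presheaf.map _).hom.comp (i.appLE _ _ _).hom
      rw [← CommRingCat.hom_comp, Scheme.Hom.appLE_map])
  have halg : algebraMap Γ(X, W) Γ(Z, i ⁻¹ᵁ W) = (i.app W).hom := congrArg CommRingCat.Hom.hom (appLE_self (i := i) W)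
  have halg' : algebraMap Γ(X, W') Γ(Z, i ⁻¹ᵁ W') = (i.app W').hom := congrArg CommRingCat.Hom.hom (appLE_self (i := i) W')
  have hs : Function.Surjective (algebraMap Γ(X, W) Γ(Z, i ⁻¹ᵁ W)) := by rw [halg]; exact hW.surj
  have hs' : Function.Surjective (algebraMap Γ(X, W') Γ(Z, i ⁻¹ᵁ W')) := by rw [halg']; exact hW'.surj
  obtain ⟨k, rfl⟩ := (conormalSect_spec hW).1 m
  have hk : idealSect i.ker W k ∈ RingHom.ker (algebraMap Γ(X, W) Γ(Z, i ⁻¹ᵁ W)) := by
    rw [halg]; exact (exists_idealSect_iff hW.affine _).1 ⟨k, rfl⟩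
  let k' := rs (ClSub.idealMod i.ker) h k
  have hk' : idealSect i.ker W' k' ∈ RingHom.ker (algebraMap Γ(X, W') Γ(Z, i ⁻¹ᵁ W')) := by
    rw [halg']; exact (exists_idealSect_iff hW'.affine _).1 ⟨k', rfl⟩
  rw [phi_spec hW hs k hk,
    show rs (Omega.conormal i) (i.preimage_mono h) (conormalSect i W k) = conormalSect i W' k' from
      (Kaehler.Conormal.conormalSect_map i h k).symm,
    phi_spec hW' hs' k' hk']
  exact Kappa.kap_map hs hs' _ _ (Kaehler.Conormal.idealSect_map i h k).symm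

theorem phi_smul {W : X.Opens} (hW : IsChart i W) (b : Γ(Z, i ⁻¹ᵁ W))
    (m : Γ(Omega.conormal i, i ⁻¹ᵁ W)) : phi hW (b • m) = b • phi hW m := by
  letI := (i.appLE W (i ⁻¹ᵁ W) le_rfl).hom.toAlgebra
  have halg : algebraMap Γ(X, W) Γ(Z, i ⁻¹ᵁ W) = (i.app W).hom := congrArg CommRingCat.Hom.hom (appLE_self (i := i) W)
  have hs : Function.Surjective (algebraMap Γ(X, W) Γ(Z, i ⁻¹ᵁ W)) := by rw [halg]; exact hW.surj
  have hmem : ∀ k, idealSect i.ker W k ∈ RingHom.ker (algebraMap Γ(X, W) Γ(Z, i ⁻¹ᵁ W)) := fun k => by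
    rw [halg]; exact (exists_idealSect_iff hW.affine _).1 ⟨k, rfl⟩
  obtain ⟨a, rfl⟩ := hW.surj b
  obtain ⟨k, rfl⟩ := (conormalSect_spec hW).1 m
  rw [← Kaehler.Conormal.conormalSect_smul, phi_spec hW hs _ (hmem (a • k)), phi_spec hW hs k (hmem k)]
  refine (congrArg _ (Subtype.ext (Kaehler.Conormal.idealSect_smul i W a k))).trans
    ((Kappa.kap_smul hs a ⟨_, hmem k⟩).trans ?_)
  exact congrArg (· • Kappa.kap hs ⟨_, hmem k⟩) (RingHom.congr_fun halg a)

theorem exists_chart_le [IsImmersion i] (p : Pair i) {z : Z} (hz : z ∈ (p.U : Z.Opens)) :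
    ∃ (W : X.Opens) (hW : IsChart i W), i z ∈ W ∧ pairW hW ≤ p := by
  obtain ⟨O, hO, hOU⟩ := i.isEmbedding.isInducing.isOpen_iff.1 (p.U : Z.Opens).isOpen
  have hzO : i z ∈ (⟨O, hO⟩ : X.Opens) ⊓ (p.V : X.Opens) := by
    refine ⟨?_, p.e hz⟩
    have : z ∈ i ⁻¹' O := by rw [hOU]; exact hz
    exact this
  obtain ⟨W, hW, hzW, hle⟩ := exists_chart i z hzO
  refine ⟨W, hW, hzW, fun w hw => ?_, hle.trans inf_le_right⟩
  have : w ∈ i ⁻¹' O := (hle hw).1
  rw [hOU] at this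
  exact this

/-- Compatibility of the chart isomorphisms on common refinements. -/
theorem phi_indep [IsImmersion i] {U : Z.Opens} (m : Γ(Omega.conormal i, U)) {W₁ W₂ : X.Opens}
    (h₁ : IsChart i W₁) (h₂ : IsChart i W₂) (u₁ : i ⁻¹ᵁ W₁ ≤ U) (u₂ : i ⁻¹ᵁ W₂ ≤ U) {r : Pair i}
    (r₁ : r ≤ pairW h₁) (r₂ : r ≤ pairW h₂) :
    res r₁ (phi h₁ (rs (Omega.conormal i) u₁ m)) = res r₂ (phi h₂ (rs (Omega.conormal i) u₂ m)) := by
  refine sep fun z hz => ?_
  obtain ⟨W, hW, hzW, hle⟩ := exists_chart_le r hz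
  have l₁ : W ≤ W₁ := (hle.trans r₁).2
  have l₂ : W ≤ W₂ := (hle.trans r₂).2
  refine ⟨pairW hW, hle, hzW, ?_⟩
  rw [res_res r₁ hle (pairW_mono h₁ hW l₁), res_res r₂ hle (pairW_mono h₂ hW l₂), phi_res h₁ hW l₁,
    phi_res h₂ hW l₂, rs_rs, rs_rs]

/-- The specification of the identification at a pair. -/
def IsPhiAt (p : Pair i) (m : Γ(Omega.conormal i, (p.U : Z.Opens))) (y : H p) : Prop :=
  ∀ (W : X.Opens) (hW : IsChart i W) (u : i ⁻¹ᵁ W ≤ p.U) (r : Pair i) (h₁ : r ≤ pairW hW) (h₂ : r ≤ p),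
    res h₂ y = res h₁ (phi hW (rs (Omega.conormal i) u m))

theorem exists_Phi [IsImmersion i] (p : Pair i) (m : Γ(Omega.conormal i, (p.U : Z.Opens))) :
    ∃ y, IsPhiAt p m y := by
  let P : Pair i → Prop := fun r => ∃ (W : X.Opens) (hW : IsChart i W),
    i ⁻¹ᵁ W ≤ p.U ∧ r ≤ pairW hW
  obtain ⟨y, hy⟩ := glue p P (fun r r' h ⟨W, hW, u, hr⟩ => ⟨W, hW, u, h.trans hr⟩)
    (fun z hz => by
      obtain ⟨W, hW, hzW, hle⟩ := exists_chart_le p hz
      exact ⟨pairW hW, ⟨W, hW, hle.1, le_rfl⟩, hle, hzW⟩)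
    (fun r hr _ => res hr.choose_spec.choose_spec.2
      (phi hr.choose_spec.choose (rs (Omega.conormal i) hr.choose_spec.choose_spec.1 m)))
    fun r r' h hr _ => by
      rw [res_res _ h (h.trans hr.choose_spec.choose_spec.2)]
      exact phi_indep m _ _ _ _ _ _
  refine ⟨y, fun W hW u r h₁ h₂ => ?_⟩
  rw [hy r ⟨W, hW, u, h₁⟩ h₂]
  exact phi_indep m _ _ _ _ _ _

variable [IsImmersion i]

theorem eq_of_isPhiAt {p : Pair i} {m : Γ(Omega.conormal i, (p.U : Z.Opens))} {y y' : H p}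
    (hy : IsPhiAt p m y) (hy' : IsPhiAt p m y') : y = y' := by
  refine sep fun z hz => ?_
  obtain ⟨W, hW, hzW, hle⟩ := exists_chart_le p hz
  exact ⟨pairW hW, hle, hzW, by rw [hy W hW hle.1 _ le_rfl hle, hy' W hW hle.1 _ le_rfl hle]⟩

/-- The identification at a pair. -/
def Phi (p : Pair i) : Γ(Omega.conormal i, (p.U : Z.Opens)) →+ H p :=
  AddMonoidHom.mk' (fun m => (exists_Phi p m).choose) fun a b => eq_of_isPhiAt (exists_Phi p _).choose_spec
    fun W hW u r h₁ h₂ => by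
      rw [map_add, (exists_Phi p a).choose_spec W hW u r h₁ h₂, (exists_Phi p b).choose_spec W hW u r h₁ h₂,
        ← map_add, ← map_add]
      exact congrArg (fun t => res h₁ (phi hW t))
        (map_add ((Omega.conormal i).presheaf.map (homOfLE u).op).hom a b).symm

theorem Phi_spec (p : Pair i) (m) : IsPhiAt p m (Phi p m) := (exists_Phi p m).choose_spec

theorem Phi_res {p p' : Pair i} (h : p' ≤ p) (m : Γ(Omega.conormal i, (p.U : Z.Opens))) :
    res h (Phi p m) = Phi p' (rs (Omega.conormal i) h.1 m) := by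
  refine eq_of_isPhiAt (fun W hW u r h₁ h₂ => ?_) (Phi_spec p' _)
  rw [res_res h h₂ (h₂.trans h), Phi_spec p m W hW (u.trans h.1) r h₁, rs_rs]

theorem Phi_smul (p : Pair i) (a : Γ(Z, (p.U : Z.Opens))) (m : Γ(Omega.conormal i, (p.U : Z.Opens))) :
    Phi p (a • m) = a • Phi p m := by
  refine eq_of_isPhiAt (Phi_spec p _) fun W hW u r h₁ h₂ => ?_
  rw [res_smul, Phi_spec p m W hW u r h₁ h₂, rs_smul, phi_smul, res_smul]
  congr 1
  change _ = (Z.presheaf.map (homOfLE u).op ≫ Z.presheaf.map (homOfLE h₁.1).op).hom a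
  rw [← Functor.map_comp]
  rfl

theorem Phi_pairW {W : X.Opens} (hW : IsChart i W) (m : Γ(Omega.conormal i, i ⁻¹ᵁ W)) :
    Phi (pairW hW) m = phi hW m := by
  rw [← res_self le_rfl (Phi (pairW hW) m), Phi_spec (pairW hW) m W hW le_rfl _ le_rfl le_rfl,
    res_self, rs_self]

theorem Phi_bijective (p : Pair i) : Function.Bijective (Phi p) := by
  let sh : TopCat.Sheaf Ab.{u} Z := ⟨(Omega.conormal i).presheaf, (Omega.conormal i).isSheaf⟩
  choose W hW hzW hle using fun z : (p.U : Z.Opens) => exists_chart_le p z.2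
  have hcov : (p.U : Z.Opens) ≤ ⨆ z, i ⁻¹ᵁ W z := fun z hz => Opens.mem_iSup.2 ⟨⟨z, hz⟩, hzW _⟩
  refine ⟨(injective_iff_map_eq_zero _).2 fun m hm => ?_, fun y => ?_⟩
  · refine sh.eq_of_locally_eq' (fun z => i ⁻¹ᵁ W z) _ (fun z => homOfLE (hle z).1) hcov m 0 fun z => ?_
    rw [map_zero]
    refine (phi (hW z)).injective ?_
    rw [map_zero, ← Phi_pairW]
    refine (Phi_res (hle z) m).symm.trans ?_
    rw [hm, map_zero]
  · have hcompat : ∀ a b, rs (Omega.conormal i) (inf_le_left : i ⁻¹ᵁ W a ⊓ i ⁻¹ᵁ W b ≤ _)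
        ((phi (hW a)).symm (res (hle a) y)) =
      rs (Omega.conormal i) (inf_le_right : i ⁻¹ᵁ W a ⊓ i ⁻¹ᵁ W b ≤ _)
        ((phi (hW b)).symm (res (hle b) y)) := fun a b => by
      choose W' hW' hzW' hle' using fun z : (i ⁻¹ᵁ W a ⊓ i ⁻¹ᵁ W b : Z.Opens) =>
        exists_chart i z.1 (W := W a ⊓ W b) z.2
      refine sh.eq_of_locally_eq' (fun z => i ⁻¹ᵁ W' z) _
        (fun z => homOfLE (le_inf (i.preimage_mono ((hle' z).trans inf_le_left))
          (i.preimage_mono ((hle' z).trans inf_le_right))))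
        (fun z hz => Opens.mem_iSup.2 ⟨⟨z, hz⟩, hzW' _⟩) _ _ fun z => ?_
      change rs (Omega.conormal i) _ (rs _ _ _) = rs (Omega.conormal i) _ (rs _ _ _)
      rw [rs_rs, rs_rs]
      refine (phi (hW' z)).injective ?_
      rw [← phi_res (hW a) (hW' z) ((hle' z).trans inf_le_left),
        ← phi_res (hW b) (hW' z) ((hle' z).trans inf_le_right), AddEquiv.apply_symm_apply,
        AddEquiv.apply_symm_apply, res_res _ _ ((pairW_mono (hW a) (hW' z) ((hle' z).trans inf_le_left)).trans (hle a)), res_res]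
    obtain ⟨m, hm, -⟩ := sh.existsUnique_gluing' (fun z => i ⁻¹ᵁ W z) _ (fun z => homOfLE (hle z).1)
      hcov (fun z => (phi (hW z)).symm (res (hle z) y)) hcompat
    refine ⟨m, sep fun z hz => ?_⟩
    refine ⟨pairW (hW ⟨z, hz⟩), hle _, hzW _, ?_⟩
    rw [Phi_res, Phi_pairW, show rs (Omega.conormal i) _ m = _ from hm ⟨z, hz⟩, AddEquiv.apply_symm_apply]

variable (i)

/-- The conormal sheaf is `H^{-1}` of the naive cotangent complex. -/
def h1Sheaf : NLCx.H1Sheaf i (Omega.conormal i) where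
  iso U V e := AddEquiv.ofBijective (Phi ⟨U, V, e⟩) (Phi_bijective ⟨U, V, e⟩)
  map_smul U V e a m := Phi_smul ⟨U, V, e⟩ a m
  map_res {U U' V V'} e e' hU hV m :=
    (Phi_res (p := ⟨U, V, e⟩) (p' := ⟨U', V', e'⟩) ⟨hU, hV⟩ m).symm

theorem subsingleton_kaehler (U : Z.affineOpens) (V : X.affineOpens)
    (e : (U : Z.Opens) ≤ i ⁻¹ᵁ (V : X.Opens)) :
    letI := (i.appLE (V : X.Opens) (U : Z.Opens) e).hom.toAlgebra
    Subsingleton (Ω[Γ(Z, (U : Z.Opens))⁄Γ(X, (V : X.Opens))]) := by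
  letI := (i.appLE (V : X.Opens) (U : Z.Opens) e).hom.toAlgebra
  have : RingHom.FormallyUnramified (i.appLE (V : X.Opens) (U : Z.Opens) e).hom :=
    HasRingHomProperty.appLE (P := @AlgebraicGeometry.FormallyUnramified) i inferInstance V U e
  exact this.subsingleton_kaehlerDifferential

end

end Groth.Agent.Lib.NLSheaf.ConormalH1
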