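import Groth.Agent.Lib.NLSheaf.Complex
import Groth.Agent.Lib.DR.FlatBC
import Groth.Agent.Lib.LCI5.TwoTermFlat
import Groth.Prelude.Def_LCI2

/-!
# Base change of the naive cotangent complex in the derived category
-/

set_option autoImplicit false
set_option linter.style.haveILetI false

universe u

open CategoryTheory CategoryTheory.Limits TensorProduct
open Groth.Agent.Lib.DR

attribute [local instance] HasDerivedCategory.standard

namespace Groth.Agent.Lib.NLSheaf.Derived

variable {B B' : Type u} [CommRing B] [CommRing B'] [Algebra B B']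

theorem extEquiv_natural {M N : Type u} [AddCommGroup M] [Module B M] [AddCommGroup N] [Module B N]
    (l : M →ₗ[B] N) (x : (ModuleCat.extendScalars.{u, u, u} (algebraMap B B')).obj (ModuleCat.of B M)) :
    FlatBC.extEquiv B B' N ((ModuleCat.extendScalars.{u, u, u} (algebraMap B B')).map (ModuleCat.ofHom l) x) =
      l.baseChange B' (FlatBC.extEquiv B B' M x) := by
  induction x using TensorProduct.induction_on with
  | zero =>
    exact ((congrArg (FlatBC.extEquiv B B' N) (map_zero _)).trans (map_zero _)).trans
      ((congrArg (l.baseChange B') (map_zero _)).trans (map_zero _)).symm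
  | tmul b m => rfl
  | add x y hx hy =>
    exact ((congrArg (FlatBC.extEquiv B B' N) (map_add _ x y)).trans (map_add _ _ _)).trans
      ((congrArg₂ (· + ·) hx hy).trans
        ((map_add _ _ _).symm.trans (congrArg (l.baseChange B') (map_add _ x y).symm)))

theorem nonempty_extIso {M N : Type u} [AddCommGroup M] [Module B M] [AddCommGroup N] [Module B N] (d : M →ₗ[B] N) :
    Nonempty ((BaseChange.ext (algebraMap B B')).obj (Complex.dbl (ModuleCat.ofHom d)) ≅
      Complex.dbl (ModuleCat.ofHom (d.baseChange B'))) := by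
  let F := ModuleCat.extendScalars.{u, u, u} (algebraMap B B')
  let K := Complex.dbl (ModuleCat.ofHom d)
  let a : ModuleCat.of B' (B' ⊗[B] M) ≅ F.obj (ModuleCat.of B M) := (FlatBC.extEquiv B B' M).symm.toModuleIso
  let b : ModuleCat.of B' (B' ⊗[B] N) ≅ F.obj (ModuleCat.of B N) := (FlatBC.extEquiv B B' N).symm.toModuleIso
  have hw : ModuleCat.ofHom (d.baseChange B') ≫ b.hom = a.hom ≫ F.map (ModuleCat.ofHom d) := by
    refine ModuleCat.hom_ext (LinearMap.ext fun x => (FlatBC.extEquiv B B' N).injective ?_)
    refine ((FlatBC.extEquiv B B' N).apply_symm_apply _).trans (Eq.symm ?_)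
    refine (extEquiv_natural d _).trans ?_
    exact congrArg (d.baseChange B') ((FlatBC.extEquiv B B' M).apply_symm_apply x)
  let ψ : Complex.dbl (ModuleCat.ofHom (d.baseChange B')) ⟶ (BaseChange.ext (algebraMap B B')).obj K :=
    HomologicalComplex.mkHomFromDouble _ (by decide)
      (a.hom ≫ F.map (Complex.i0 (ModuleCat.ofHom d)).inv) (b.hom ≫ F.map (Complex.i1 (ModuleCat.ofHom d)).inv)
      (by
        show (a.hom ≫ F.map (Complex.i0 (ModuleCat.ofHom d)).inv) ≫ F.map (K.d (-1) 0) =
          ModuleCat.ofHom (d.baseChange B') ≫ b.hom ≫ F.map (Complex.i1 (ModuleCat.ofHom d)).inv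
        rw [reassoc_of% hw, Category.assoc, ← F.map_comp, ← F.map_comp, HomologicalComplex.double_d _ _ (by decide)]
        erw [Iso.inv_hom_id_assoc])
      (fun k hk => (F.map_isZero (HomologicalComplex.isZero_double_X _ _ k (by simp at hk; omega)
        (by simp at hk; omega))).eq_of_tgt _ _)
  haveI : ∀ n, IsIso (ψ.f n) := fun n => by
    by_cases hn : n = -1
    · subst hn
      haveI : IsIso ((Complex.i0 (ModuleCat.ofHom (d.baseChange B'))).hom ≫ a.hom ≫
          F.map (Complex.i0 (ModuleCat.ofHom d)).inv) := inferInstance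
      have e : ψ.f (-1) = (Complex.i0 (ModuleCat.ofHom (d.baseChange B'))).hom ≫ a.hom ≫
          F.map (Complex.i0 (ModuleCat.ofHom d)).inv := HomologicalComplex.mkHomFromDouble_f₀ _ _ _ _ _ _
      rw [e]; exact this
    by_cases hn' : n = 0
    · subst hn'
      haveI : IsIso ((Complex.i1 (ModuleCat.ofHom (d.baseChange B'))).hom ≫ b.hom ≫
          F.map (Complex.i1 (ModuleCat.ofHom d)).inv) := inferInstance
      have e : ψ.f 0 = (Complex.i1 (ModuleCat.ofHom (d.baseChange B'))).hom ≫ b.hom ≫
          F.map (Complex.i1 (ModuleCat.ofHom d)).inv := HomologicalComplex.mkHomFromDouble_f₁ _ _ _ _ _ _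
      rw [e]; exact this
    exact (HomologicalComplex.isZero_double_X _ _ n hn hn').isIso
      (F.map_isZero (HomologicalComplex.isZero_double_X _ _ n hn hn')) _
  haveI := HomologicalComplex.Hom.isIso_of_components ψ
  exact ⟨(asIso ψ).symm⟩

variable {A A' : Type u} [CommRing A] [CommRing A'] [Algebra A B] [Algebra A' B'] [Algebra A A'] [Algebra A B']
  [IsScalarTower A A' B'] [IsScalarTower A B B'] [Algebra.IsPushout A A' B B'] [Module.Flat A B]

variable (A B A' B') in
theorem quasiIso_bcMapSelf : QuasiIso (NLCx.bcMapSelf A B A' B') := by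
  obtain ⟨e, he⟩ := Complex.exists_homotopyEquiv_bcMapSelf (R := A) (S := B) (R' := A') (S' := B')
    (BaseChange.lTensor_ker_injective_of_flat _)
  rw [← he]
  infer_instance

variable (A B A' B') in
theorem nonempty_LBaseChange_iso (h : DRing.HasTorAmplitudeIn B (-1) 0 (LCI.NL A B))
    [DRing.HasLBaseChange (algebraMap B B')] :
    Nonempty ((DRing.LBaseChange (algebraMap B B')).obj (LCI.NL A B) ≅ LCI.NL A' B') := by
  let P := (Algebra.Generators.self A B).toExtension
  haveI : Module.Projective B P.CotangentSpace :=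
    Module.Projective.of_basis (Algebra.Generators.self A B).cotangentSpaceBasis
  haveI : Module.Flat B P.Cotangent :=
    LCI5.TwoTermFlat.flat_of_torAmplitude (ModuleCat.ofHom P.cotangentComplex) h
  have hflat : ∀ i, PseudoCoherent.flat B ((NLCx.cx P).X i) := fun i => by
    by_cases hn : i = -1
    · subst hn
      exact Module.Flat.of_linearEquiv (Complex.i0 (ModuleCat.ofHom P.cotangentComplex)).toLinearEquiv
    by_cases hn' : i = 0
    · subst hn'
      haveI : Module.Flat B P.CotangentSpace := Module.Flat.of_projective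
      exact Module.Flat.of_linearEquiv (Complex.i1 (ModuleCat.ofHom P.cotangentComplex)).toLinearEquiv
    haveI : Subsingleton ((NLCx.cx P).X i) :=
      ModuleCat.subsingleton_of_isZero (HomologicalComplex.isZero_double_X _ _ i hn hn')
    exact (inferInstance : Module.Flat B ((NLCx.cx P).X i))
  obtain ⟨e⟩ := nonempty_extIso (B' := B') P.cotangentComplex
  haveI := quasiIso_bcMapSelf (A := A) (B := B) (A' := A') (B' := B')
  have hQ : IsIso (DerivedCategory.Q.map (NLCx.bcMapSelf A B A' B')) :=
    (DerivedCategory.isIso_Q_map_iff_quasiIso (C := ModuleCat.{u} B') _).2 inferInstance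
  exact ⟨BaseChange.bcFlat (algebraMap B B') (NLCx.cx P) 0
      (fun i hi => HomologicalComplex.isZero_double_X _ _ i (by omega) (by omega)) hflat ≪≫
    DerivedCategory.Q.mapIso e ≪≫ @asIso _ _ _ _ _ hQ⟩

end Groth.Agent.Lib.NLSheaf.Derived
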