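import Groth.Agent.Lib.NLSheaf.Chart

/-! Separation and gluing of the `H^{-1}` of affine chart pairs. -/

set_option autoImplicit false

universe u

open CategoryTheory AlgebraicGeometry Opposite TopologicalSpace

namespace Groth.Agent.Lib.NLSheaf

open Chart

variable {X Y : Scheme.{u}} {f : X ⟶ Y}

theorem exists_common (q r : Pair f) {z : X} (hq : z ∈ (q.U : X.Opens)) (hr : z ∈ (r.U : X.Opens)) :
    ∃ t : Pair f, t ≤ q ∧ t ≤ r ∧ z ∈ (t.U : X.Opens) := by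
  have hv : f.base z ∈ ((q.V : Y.Opens) ⊓ (r.V : Y.Opens)) := ⟨q.e hq, r.e hr⟩
  obtain ⟨W, hW, hzW, hWle⟩ :=
    TopologicalSpace.Opens.isBasis_iff_nbhd.1 Y.isBasis_affineOpens hv
  have hu : z ∈ (q.U : X.Opens) ⊓ (r.U : X.Opens) ⊓ f ⁻¹ᵁ W := ⟨⟨hq, hr⟩, hzW⟩
  obtain ⟨U', hU', hzU', hUle⟩ :=
    TopologicalSpace.Opens.isBasis_iff_nbhd.1 X.isBasis_affineOpens hu
  exact ⟨⟨⟨U', hU'⟩, ⟨W, hW⟩, hUle.trans inf_le_right⟩,
    ⟨hUle.trans (inf_le_left.trans inf_le_left), hWle.trans inf_le_left⟩,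
    ⟨hUle.trans (inf_le_left.trans inf_le_right), hWle.trans inf_le_right⟩, hzU'⟩

theorem exists_refine {q r : Pair f} (h : r ≤ q) {z : X} (hz : z ∈ (r.U : X.Opens)) :
    ∃ (a : Γ(X, (q.U : X.Opens))) (g : Γ(Y, (q.V : Y.Opens)))
      (hg : ((q.basic a).U : X.Opens) ≤ f ⁻¹ᵁ Y.basicOpen g),
      z ∈ X.basicOpen a ∧ (q.basic a).baseBasic g hg ≤ r := by
  obtain ⟨g, hgle, hzg⟩ := q.V.2.exists_basicOpen_le ⟨f.base z, r.e hz⟩ (q.e (h.1 hz))
  obtain ⟨a, hale, hza⟩ := q.U.2.exists_basicOpen_le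
    (V := (r.U : X.Opens) ⊓ f ⁻¹ᵁ Y.basicOpen g) ⟨z, hz, hzg⟩ (h.1 hz)
  exact ⟨a, g, hale.trans inf_le_right, hza, hale.trans inf_le_left, hgle⟩

/-- Two elements agreeing on nested pairs around every point are equal. -/
theorem sep {q : Pair f} {x x' : H q}
    (H' : ∀ z ∈ (q.U : X.Opens), ∃ (r : Pair f) (h : r ≤ q), z ∈ (r.U : X.Opens) ∧ res h x = res h x') :
    x = x' := by
  have key : ∀ z : (q.U : X.Opens), ∃ a : Γ(X, (q.U : X.Opens)), (z : X) ∈ X.basicOpen a ∧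
      ∃ n : ℕ, a ^ n • x = a ^ n • x' := fun z => by
    obtain ⟨r, h, hz, hx⟩ := H' z z.2
    obtain ⟨a, g, hg, hza, hle⟩ := exists_refine h hz
    refine ⟨a, hza, (res_basic_surj_and_exists_of_eq q a).2 x x' ?_⟩
    refine (res_baseBasic_bijective (q.basic a) g hg).1 ?_
    rw [res_res (q.basic_le a) _ (hle.trans h), res_res (q.basic_le a) _ (hle.trans h),
      ← res_res h hle, hx, res_res h hle]
  choose a ha n hn using key
  rw [← sub_eq_zero, ← Submodule.mem_bot Γ(X, (q.U : X.Opens))]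
  refine Submodule.mem_of_span_eq_top_of_smul_pow_mem _ (Set.range a) ?_ _ ?_
  · exact q.U.2.self_le_iSup_basicOpen_iff.1 fun z hz =>
      Opens.mem_iSup.2 ⟨⟨_, ⟨⟨z, hz⟩, rfl⟩⟩, ha ⟨z, hz⟩⟩
  · rintro ⟨_, z, rfl⟩
    exact ⟨n z, by rw [Submodule.mem_bot, smul_sub, hn z, sub_self]⟩

set_option maxHeartbeats 1000000 in
/-- Gluing elements given on the basic opens of a finite family of the source. -/
theorem glue_basic (q : Pair f) (t : Finset Γ(X, (q.U : X.Opens)))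
    (ht : Ideal.span (t : Set Γ(X, (q.U : X.Opens))) = ⊤) (s : ∀ a ∈ t, H (q.basic a))
    (compat : ∀ (a b : Γ(X, (q.U : X.Opens))) (ha : a ∈ t) (hb : b ∈ t)
      (h₁ : q.basic (a * b) ≤ q.basic a) (h₂ : q.basic (a * b) ≤ q.basic b),
      res h₁ (s a ha) = res h₂ (s b hb)) :
    ∃ y : H q, ∀ a (ha : a ∈ t), res (q.basic_le a) y = s a ha := by
  classical
  let ρ : ∀ a, Γ(X, (q.U : X.Opens)) →+* Γ(X, ((q.basic a).U : X.Opens)) :=
    fun a => (X.presheaf.map (homOfLE (q.basic_le a).1).op).hom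
  have h₀ : ∀ a : t, ∃ (n : ℕ) (x : H q), res (q.basic_le a.1) x = ρ a.1 (a.1 ^ n) • s a.1 a.2 :=
    fun a => (res_basic_surj_and_exists_of_eq q a.1).1 _
  choose n x hx using h₀
  let N := Finset.univ.sup n
  obtain ⟨x₁, hx₁⟩ : ∃ x₁ : t → H q,
      ∀ a, res (q.basic_le a.1) (x₁ a) = ρ a.1 (a.1 ^ N) • s a.1 a.2 := by
    refine ⟨fun a => a.1 ^ (N - n a) • x a, fun a => ?_⟩
    dsimp only
    rw [res_smul, hx, smul_smul]
    change (ρ a.1 _ * ρ a.1 _) • _ = _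
    rw [← map_mul, ← pow_add, Nat.sub_add_cancel (Finset.le_sup (Finset.mem_univ a))]
  have h₁ : ∀ a b : t, ∃ m : ℕ,
      (a.1 * b.1) ^ m • (b.1 ^ N • x₁ a) = (a.1 * b.1) ^ m • (a.1 ^ N • x₁ b) := fun a b => by
    have l₁ : q.basic (a.1 * b.1) ≤ q.basic a.1 := ⟨by
      change X.basicOpen _ ≤ X.basicOpen _
      rw [X.basicOpen_mul]; exact inf_le_left, le_rfl⟩
    have l₂ : q.basic (a.1 * b.1) ≤ q.basic b.1 := ⟨by
      change X.basicOpen _ ≤ X.basicOpen _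
      rw [X.basicOpen_mul]; exact inf_le_right, le_rfl⟩
    refine (res_basic_surj_and_exists_of_eq q _).2 _ _ ?_
    have e : ∀ (c : Γ(X, (q.U : X.Opens))) (l : q.basic (a.1 * b.1) ≤ q.basic c) (k : ℕ),
        (X.presheaf.map (homOfLE l.1).op).hom (ρ c (c ^ k)) = ρ (a.1 * b.1) (c ^ k) := fun c l k => by
      change (X.presheaf.map (homOfLE (q.basic_le c).1).op ≫ X.presheaf.map (homOfLE l.1).op).hom _ = _
      rw [← Functor.map_comp]
      rfl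
    rw [res_smul, res_smul, ← res_res (q.basic_le a.1) l₁, ← res_res (q.basic_le b.1) l₂, hx₁, hx₁,
      res_smul, res_smul, e _ l₁, e _ l₂, compat _ _ a.2 b.2 l₁ l₂]
    exact smul_comm _ _ _
  choose m hm using h₁
  let M := Finset.univ.sup fun p : t × t => m p.1 p.2
  have hM : ∀ a b : t, b.1 ^ (N + M) • (a.1 ^ M • x₁ a) = a.1 ^ (N + M) • (b.1 ^ M • x₁ b) := fun a b => by
    have hle : m a b ≤ M := Finset.le_sup (f := fun p : t × t => m p.1 p.2) (Finset.mem_univ (a, b))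
    obtain ⟨d, hd⟩ := Nat.exists_eq_add_of_le hle
    have := congrArg (fun y => (a.1 * b.1) ^ d • y) (hm a b)
    simp only [smul_smul] at this ⊢
    rw [hd]
    convert this using 2 <;> ring
  obtain ⟨c, hc⟩ : ∃ c : t → Γ(X, (q.U : X.Opens)), ∑ a, c a * a.1 ^ (N + M) = 1 := by
    refine Ideal.mem_span_range_iff_exists_fun.1 ?_
    rw [show Set.range (fun a : t => a.1 ^ (N + M)) = (fun a => a ^ (N + M)) '' (t : Set _) by
      ext y; simp, Ideal.span_pow_eq_top _ ht]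
    trivial
  refine ⟨∑ a, c a • (a.1 ^ M • x₁ a), fun a ha => ?_⟩
  have hy : a ^ (N + M) • ∑ b, c b • (b.1 ^ M • x₁ b) = a ^ M • x₁ ⟨a, ha⟩ := by
    rw [Finset.smul_sum]
    calc _ = ∑ b : t, (c b * b.1 ^ (N + M)) • (a ^ M • x₁ ⟨a, ha⟩) := by
          refine Finset.sum_congr rfl fun b _ => ?_
          rw [smul_comm, hM b ⟨a, ha⟩, smul_smul]
      _ = _ := by rw [← Finset.sum_smul, hc, one_smul]
  have hu : IsUnit (ρ a (a ^ (N + M))) := by
    rw [map_pow]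
    refine IsUnit.pow _ ?_
    letI := (ρ a).toAlgebra
    haveI : IsLocalization.Away a Γ(X, ((q.basic a).U : X.Opens)) := q.U.2.isLocalization_basicOpen a
    exact IsLocalization.Away.algebraMap_isUnit a
  have h := congrArg (res (q.basic_le a)) hy
  rw [res_smul, res_smul, show res (q.basic_le a) (x₁ ⟨a, ha⟩) = ρ a (a ^ N) • s a ha from hx₁ ⟨a, ha⟩,
    smul_smul] at h
  refine hu.smul_left_cancel.1 (h.trans ?_)
  change (ρ a _ * ρ a _) • _ = ρ a _ • _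
  rw [← map_mul, ← pow_add, add_comm]

/-- Gluing a compatible family given on enough nested pairs. -/
theorem glue (q : Pair f) (P : Pair f → Prop) (hdown : ∀ r r', r' ≤ r → P r → P r')
    (hcov : ∀ z ∈ (q.U : X.Opens), ∃ r, P r ∧ r ≤ q ∧ z ∈ (r.U : X.Opens))
    (x : ∀ r, P r → r ≤ q → H r)
    (compat : ∀ r r' (h : r' ≤ r) (hr : P r) (hq : r ≤ q),
      res h (x r hr hq) = x r' (hdown r r' h hr) (h.trans hq)) :
    ∃ y : H q, ∀ r (hr : P r) (hq : r ≤ q), res hq y = x r hr hq := by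
  classical
  have key : ∀ z : (q.U : X.Opens), ∃ a : Γ(X, (q.U : X.Opens)), (z : X) ∈ X.basicOpen a ∧
      ∃ s : H (q.basic a), ∀ r (hr : P r) (hq : r ≤ q) (h : r ≤ q.basic a), res h s = x r hr hq := fun z => by
    obtain ⟨r₀, hr₀, h₀, hz₀⟩ := hcov z z.2
    obtain ⟨a, g, hg, hza, hle⟩ := exists_refine h₀ hz₀
    have l := (q.basic a).baseBasic_le g hg
    obtain ⟨s, hs⟩ := (res_baseBasic_bijective (q.basic a) g hg).2
      (x _ (hdown _ _ hle hr₀) (l.trans (q.basic_le a)))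
    refine ⟨a, hza, s, fun r hr hq h => sep fun v hv => ?_⟩
    have hv' : v ∈ (((q.basic a).baseBasic g hg).U : X.Opens) := h.1 hv
    obtain ⟨t, ht₁, ht₂, hvt⟩ := exists_common r _ hv hv'
    refine ⟨t, ht₁, hvt, ?_⟩
    rw [res_res h ht₁ (ht₁.trans h), ← res_res l ht₂, hs, compat, compat]
  choose a ha s hs using key
  have hspan : Ideal.span (Set.range a) = ⊤ := q.U.2.self_le_iSup_basicOpen_iff.1 fun z hz =>
    Opens.mem_iSup.2 ⟨⟨_, ⟨⟨z, hz⟩, rfl⟩⟩, ha ⟨z, hz⟩⟩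
  obtain ⟨t, hts, ht⟩ := (Ideal.span_eq_top_iff_finite _).1 hspan
  choose z hz using fun b : t => hts b.2
  have hs' : ∀ (b) (hb : b ∈ t), ∃ s : H (q.basic b),
      ∀ r (hr : P r) (hq : r ≤ q) (h : r ≤ q.basic b), res h s = x r hr hq := fun b hb => by
    obtain ⟨w, rfl⟩ := hts hb
    exact ⟨s w, hs w⟩
  choose s' hs'' using hs'
  obtain ⟨y, hy⟩ := glue_basic q t ht s' fun b c hb hc l₁ l₂ => sep fun v hv => by
    obtain ⟨r₀, hr₀, h₀, hv₀⟩ := hcov v ((q.basic_le _).1 hv)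
    obtain ⟨r, h₁, h₂, hvr⟩ := exists_common (q.basic (b * c)) r₀ hv hv₀
    refine ⟨r, h₁, hvr, ?_⟩
    rw [res_res l₁ h₁ (h₁.trans l₁), res_res l₂ h₁ (h₁.trans l₂),
      hs'' b hb r (hdown _ _ h₂ hr₀) (h₂.trans h₀), hs'' c hc r (hdown _ _ h₂ hr₀) (h₂.trans h₀)]
  refine ⟨y, fun r hr hq => sep fun v hv => ?_⟩
  obtain ⟨⟨b, hb⟩, hvb⟩ := Opens.mem_iSup.1
    ((q.U.2.self_le_iSup_basicOpen_iff (s := (t : Set _))).2 ht (hq.1 hv))
  obtain ⟨r', h₁, h₂, hvr'⟩ := exists_common r (q.basic b) hv hvb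
  refine ⟨r', h₁, hvr', ?_⟩
  rw [compat r r' h₁ hr hq, res_res hq h₁ (h₁.trans hq),
    ← res_res (q.basic_le b) h₂ (h₁.trans hq), hy b hb,
    hs'' b hb r' (hdown _ _ h₁ hr) (h₁.trans hq)]

end Groth.Agent.Lib.NLSheaf
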