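import Groth.Agent.Lib.NLSheaf.Complex

/-!
# `H^{-1}` of the base changed naive cotangent complex: functoriality, independence of the map, base change
-/

set_option autoImplicit false

universe u

open TensorProduct Algebra.Extension

namespace Groth.Agent.Lib.NLSheaf.H1

section Res

variable {R S : Type u} [CommRing R] [CommRing S] [Algebra R S] {P Q : Algebra.Extension.{u} R S}
  {S' : Type u} [CommRing S'] [Algebra S S']

theorem mapsTo_bcH1 (a : P.Hom Q) :
    ∀ x ∈ NLCx.bcH1 P S', (Cotangent.map a).baseChange S' x ∈ NLCx.bcH1 Q S' := fun x hx => by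
  have hx' : P.cotangentComplex.baseChange S' x = 0 := hx
  change Q.cotangentComplex.baseChange S' ((Cotangent.map a).baseChange S' x) = 0
  rw [← LinearMap.comp_apply, ← LinearMap.baseChange_comp, show Q.cotangentComplex ∘ₗ Cotangent.map a =
    CotangentSpace.map a ∘ₗ P.cotangentComplex from (CotangentSpace.map_comp_cotangentComplex a).symm,
    LinearMap.baseChange_comp, LinearMap.comp_apply, hx', map_zero]

/-- The map on `H^{-1}` of the base changed complexes induced by a map of extensions of one ring. -/
noncomputable def res (a : P.Hom Q) : NLCx.bcH1 P S' →ₗ[S'] NLCx.bcH1 Q S' :=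
  ((Cotangent.map a).baseChange S').restrict (mapsTo_bcH1 a)

theorem res_coe (a : P.Hom Q) (x : NLCx.bcH1 P S') :
    ((res a x : NLCx.bcH1 Q S') : S' ⊗[S] Q.Cotangent) = (Cotangent.map a).baseChange S' x.1 := rfl

theorem res_eq (a a' : P.Hom Q) (x : NLCx.bcH1 P S') : res a x = res a' x := by
  refine Subtype.ext ?_
  rw [res_coe, res_coe, ← sub_eq_zero, ← LinearMap.sub_apply, ← LinearMap.baseChange_sub,
    Cotangent.map_sub_map, LinearMap.baseChange_comp, LinearMap.comp_apply,
    show P.cotangentComplex.baseChange S' x.1 = 0 from x.2, map_zero]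

theorem res_res {Q' : Algebra.Extension.{u} R S} (a : P.Hom Q) (b : Q.Hom Q') (x : NLCx.bcH1 P S') :
    res b (res a x) = res (b.comp a) x := by
  refine Subtype.ext ?_
  rw [res_coe, res_coe, res_coe, Cotangent.map_comp, ← LinearMap.comp_apply, ← LinearMap.baseChange_comp]
  rfl

theorem res_id (x : NLCx.bcH1 P S') : res (Hom.id P) x = x := by
  refine Subtype.ext ?_
  rw [res_coe, Cotangent.map_id, LinearMap.baseChange_id]
  rfl

/-- Presentations dominating each other have the same `H^{-1}` after base change. -/
noncomputable def resEquiv (a : P.Hom Q) (b : Q.Hom P) : NLCx.bcH1 P S' ≃ₗ[S'] NLCx.bcH1 Q S' :=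
  LinearEquiv.ofLinear (res a) (res b)
    (LinearMap.ext fun x => by
      rw [LinearMap.comp_apply, res_res, res_eq _ (Hom.id Q), res_id, LinearMap.id_apply])
    (LinearMap.ext fun x => by
      rw [LinearMap.comp_apply, res_res, res_eq _ (Hom.id P), res_id, LinearMap.id_apply])

end Res

section Map

variable {R S R' S' : Type u} [CommRing R] [CommRing S] [CommRing R'] [CommRing S'] [Algebra R S]
  [Algebra R' S'] [Algebra R R'] [Algebra S S'] [Algebra R S'] [IsScalarTower R R' S'] [IsScalarTower R S S']
  {P Q : Algebra.Extension.{u} R S} {P' P'' : Algebra.Extension.{u} R' S'}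

theorem bcH1Map_coe (f : P.Hom P') (x : NLCx.bcH1 P S') :
    (NLCx.bcH1Map f x).1 = LinearMap.liftBaseChange S' (Cotangent.map f) x.1 := rfl

/-- The map on `H^{-1}` does not depend on the map of extensions. -/
theorem bcH1Map_eq (f g : P.Hom P') (x : NLCx.bcH1 P S') : NLCx.bcH1Map f x = NLCx.bcH1Map g x := by
  refine Subtype.ext ?_
  rw [bcH1Map_coe, bcH1Map_coe, ← sub_eq_zero]
  have key : LinearMap.liftBaseChange S' (Cotangent.map f) - LinearMap.liftBaseChange S' (Cotangent.map g) =
      LinearMap.liftBaseChange S' (f.sub g) ∘ₗ P.cotangentComplex.baseChange S' := by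
    refine TensorProduct.AlgebraTensorModule.ext fun s y => ?_
    simp only [LinearMap.sub_apply, LinearMap.comp_apply, LinearMap.baseChange_tmul,
      LinearMap.liftBaseChange_tmul, ← smul_sub]
    exact congrArg (s • ·) (LinearMap.congr_fun (Cotangent.map_sub_map f g) y)
  rw [← LinearMap.sub_apply, key, LinearMap.comp_apply,
    show P.cotangentComplex.baseChange S' x.1 = 0 from x.2, map_zero]

theorem bcH1Map_comp_apply (f : P.Hom P') (g : P'.Hom P'') (x : NLCx.bcH1 P S') :
    NLCx.bcH1Map (g.comp f) x = H1Cotangent.map g (NLCx.bcH1Map f x) := by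
  refine Subtype.ext ?_
  rw [bcH1Map_coe]
  change _ = Cotangent.map g (LinearMap.liftBaseChange S' (Cotangent.map f) x.1)
  rw [Cotangent.map_comp, ← LinearMap.liftBaseChange_comp]
  rfl

theorem bcH1Map_res (a : Q.Hom P) (f : P.Hom P') (x : NLCx.bcH1 Q S') :
    NLCx.bcH1Map f (res a x) = NLCx.bcH1Map (f.comp a) x := by
  refine Subtype.ext ?_
  rw [bcH1Map_coe, bcH1Map_coe, res_coe, Cotangent.map_comp]
  have : LinearMap.liftBaseChange S' (Cotangent.map f) ∘ₗ (Cotangent.map a).baseChange S' =
      LinearMap.liftBaseChange S' ((Cotangent.map f).restrictScalars S ∘ₗ Cotangent.map a) := by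
    ext y
    simp
  exact LinearMap.congr_fun this x.1

/-- Surjective on `I/I²`, injective on the degree `0` terms: surjective on `H^{-1}`. -/
theorem bcH1Map_surjective (f : P.Hom P')
    (h0 : Function.Surjective (LinearMap.liftBaseChange S' (Cotangent.map f)))
    (h1 : Function.Injective (LinearMap.liftBaseChange S' (CotangentSpace.map f))) :
    Function.Surjective (NLCx.bcH1Map f) := by
  rintro ⟨y, hy⟩
  obtain ⟨x, rfl⟩ := h0 y
  have key : P'.cotangentComplex ∘ₗ LinearMap.liftBaseChange S' (Cotangent.map f) =
      LinearMap.liftBaseChange S' (CotangentSpace.map f) ∘ₗ P.cotangentComplex.baseChange S' := by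
    ext z
    simpa using (CotangentSpace.map_cotangentComplex f z).symm
  refine ⟨⟨x, h1 ?_⟩, rfl⟩
  rw [map_zero]
  exact (LinearMap.congr_fun key x).symm.trans hy

end Map

section SameVars

variable {R S R' S' : Type u} [CommRing R] [CommRing S] [CommRing R'] [CommRing S'] [Algebra R S]
  [Algebra R' S'] [Algebra R R'] [Algebra S S'] [Algebra R S'] [IsScalarTower R R' S'] [IsScalarTower R S S']
  [Algebra.IsPushout R R' S S']
  {ι : Type u} (G : Algebra.Generators R S ι) (G' : Algebra.Generators R' S' ι)
  (h : ∀ i, G'.val i = algebraMap S S' (G.val i))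

theorem bcH1Map_sameVars_surjective :
    Function.Surjective (NLCx.bcH1Map (NLCx.sameVarsHom G G' h).toExtensionHom) :=
  bcH1Map_surjective _ (BaseChange.liftBaseChange_cotangent_surjective _ (BaseChange.ker_eq_map G G' h))
    (BaseChange.liftBaseChange_cotangentSpace_bijective G G' h).1

theorem bcH1Map_self_surjective :
    Function.Surjective (NLCx.bcH1Map
      ((Algebra.Generators.self R S).defaultHom (Algebra.Generators.self R' S')).toExtensionHom) := by
  let a := Complex.toSelf R S R' S'
  let b := ((Algebra.Generators.self R' S').defaultHom (Complex.selfBC R S R' S')).toExtensionHom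
  let φ := (NLCx.sameVarsHom (Algebra.Generators.self R S) (Complex.selfBC R S R' S') fun _ => rfl).toExtensionHom
  intro y
  obtain ⟨x, hx⟩ := bcH1Map_sameVars_surjective (Algebra.Generators.self R S) (Complex.selfBC R S R' S')
    (fun _ => rfl) (H1Cotangent.map b y)
  refine ⟨x, ?_⟩
  rw [bcH1Map_eq _ (a.comp φ), bcH1Map_comp_apply]
  rw [show NLCx.bcH1Map φ x = H1Cotangent.map b y from hx]
  exact (H1Cotangent.equiv a b).apply_symm_apply y

end SameVars

end Groth.Agent.Lib.NLSheaf.H1
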