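import Groth.Agent.Lib.NLSheaf.IndEtale
import Groth.Agent.Lib.Henselian.LimDeform
import Groth.Agent.Lib.Henselian.Henselization
import Groth.Agent.Lib.Henselian.StrictHenselization

/-!
# The naive cotangent complex and (strict) henselization
-/

set_option autoImplicit false
set_option linter.style.haveILetI false

universe u

open Groth.Agent.Lib.Henselian.Pointed IsLocalRing

namespace Groth.Agent.Lib.NLSheaf.Hens

theorem quasiIso_of_equiv_lim {A B Ah Bh : Type u} [CommRing A] [CommRing B] [CommRing Ah] [CommRing Bh]
    [Algebra A B] [Algebra A Ah] [Algebra B Bh] [Algebra Ah Bh] [Algebra A Bh] [IsScalarTower A Ah Bh]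
    [IsScalarTower A B Bh] [Algebra.FormallyEtale A Ah]
    (k K : Type u) [Field k] [Field K] [Algebra B k] [Algebra k K] [Algebra B K] [IsScalarTower B k K]
    [Algebra.IsSeparable k K] (hk : Function.Surjective (algebraMap B k)) (e : Lim B K ≃ₐ[B] Bh) :
    QuasiIso (NLCx.bcMapSelf A B Ah Bh) := by
  haveI : Algebra.FormallyEtale B Bh := Algebra.FormallyEtale.of_equiv e
  haveI : Module.Flat B Bh := Module.Flat.of_linearEquiv e.symm.toLinearEquiv
  let P₂ := (Algebra.Generators.self A B).toExtension.infinitesimal
  letI : Algebra P₂.Ring k := ((algebraMap B k).comp (algebraMap P₂.Ring B)).toAlgebra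
  letI : Algebra P₂.Ring K := ((algebraMap B K).comp (algebraMap P₂.Ring B)).toAlgebra
  haveI : IsScalarTower P₂.Ring B K := IsScalarTower.of_algebraMap_eq fun _ => rfl
  haveI : IsScalarTower P₂.Ring k K := IsScalarTower.of_algebraMap_eq fun x =>
    IsScalarTower.algebraMap_apply B k K _
  obtain ⟨π, hπ, hcomp, hker⟩ := Henselian.LimDeform.exists_deformation P₂.Ring B K P₂.algebraMap_surjective
    (Henselian.LimDeform.α_surjective P₂.Ring k K (hk.comp P₂.algebraMap_surjective))
    (Henselian.LimDeform.α_surjective B k K hk)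
  refine IndEtale.quasiIso_bcMap _ ⟨?_, IndEtale.bcH1Map_self_surjective⟩ IndEtale.bijective_bcH0Map
  refine IndEtale.bcH1Map_self_injective (Lim P₂.Ring K) (e.toAlgHom.toRingHom.comp π)
    (e.surjective.comp hπ) (fun x => ?_) ?_
  · exact (congrArg e (hcomp x)).trans (e.commutes _)
  · refine le_antisymm (fun x hx => ?_) (fun x hx => ?_)
    · have h1 : π x = 0 := e.injective (hx.trans (map_zero e).symm)
      exact hker.le h1
    · have h1 : π x = 0 := hker.ge hx
      exact (congrArg e h1).trans (map_zero e)

variable {A B Ah Bh : Type u} [CommRing A] [CommRing B] [CommRing Ah] [CommRing Bh]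
  [IsLocalRing A] [IsLocalRing B] [IsLocalRing Ah] [IsLocalRing Bh] [Algebra A B]
  [Algebra A Ah] [IsLocalHom (algebraMap A Ah)] [Algebra B Bh] [IsLocalHom (algebraMap B Bh)]
  [Algebra Ah Bh] [Algebra A Bh] [IsScalarTower A Ah Bh] [IsScalarTower A B Bh]

theorem quasiIso_of_isHenselization [Hensel.IsHenselization A Ah] [Hensel.IsHenselization B Bh] :
    QuasiIso (NLCx.bcMapSelf A B Ah Bh) := by
  haveI : Algebra.FormallyEtale A Ah :=
    Algebra.FormallyEtale.of_equiv (Henselian.Henselization.equivOfIsHenselization A Ah)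
  exact quasiIso_of_equiv_lim (ResidueField B) (ResidueField B) residue_surjective
    (Henselian.Henselization.equivOfIsHenselization B Bh)

theorem quasiIso_of_isStrictHenselization [Hensel.IsStrictHenselization A Ah] [Hensel.IsStrictHenselization B Bh] :
    QuasiIso (NLCx.bcMapSelf A B Ah Bh) := by
  haveI : Algebra.FormallyEtale A Ah :=
    Algebra.FormallyEtale.of_equiv (Henselian.StrictHenselization.equivOfIsStrictHenselization A Ah)
  exact quasiIso_of_equiv_lim (ResidueField B) (Henselian.StrictHenselization.SK B) residue_surjective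
    (Henselian.StrictHenselization.equivOfIsStrictHenselization B Bh)

end Groth.Agent.Lib.NLSheaf.Hens
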