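import Groth.Agent.Lib.NLSheaf.H1
import Groth.Agent.Lib.FlatCx.Elem
import Mathlib.RingTheory.Etale.Kaehler

/-!
# The naive cotangent complex along formally étale maps
-/

set_option autoImplicit false
set_option linter.style.haveILetI false

universe u

open CategoryTheory TensorProduct Algebra.Extension
open Groth.Agent.Lib.FlatCx.Elem
open Groth.Agent.Lib.NLSheaf.Complex (dbl i0 i1)

namespace Groth.Agent.Lib.NLSheaf.IndEtale

section TwoTerm

variable {C : Type u} [CommRing C] {X Y X' Y' : ModuleCat.{u} C} {d : X ⟶ Y} {d' : X' ⟶ Y'}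

theorem dbl_d (x : X) : (dbl d).d (-1) 0 ((i0 d).inv x) = (i1 d).inv (d x) := by
  rw [HomologicalComplex.double_d _ _ (by decide)]
  simp

/-- A map of two-term complexes bijective on kernels and cokernels is a quasi-isomorphism. -/
theorem quasiIso_of_components (φ : dbl d ⟶ dbl d') (a : X ⟶ X') (b : Y ⟶ Y')
    (h0 : φ.f (-1) = (i0 d).hom ≫ a ≫ (i0 d').inv) (h1 : φ.f 0 = (i1 d).hom ≫ b ≫ (i1 d').inv)
    (hker1 : ∀ x, d x = 0 → a x = 0 → x = 0) (hker2 : ∀ x', d' x' = 0 → ∃ x, d x = 0 ∧ a x = x')
    (hcok1 : ∀ y x', d' x' = b y → ∃ x, d x = y) (hcok2 : ∀ y', ∃ y x', b y + d' x' = y') :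
    QuasiIso φ := by
  rw [quasiIso_iff]
  intro n
  rw [quasiIsoAt_iff_isIso_homologyMap]
  by_cases hn : n = -1
  · subst hn
    refine (ConcreteCategory.isIso_iff_bijective _).2
      ⟨(injective_homologyMap_iff φ (i := -2) (k := 0) (by simp) (by simp)).2 fun z hz y hy => ?_,
        (surjective_homologyMap_iff φ (i := -2) (k := 0) (by simp) (by simp)).2 fun z hz => ?_⟩
    · obtain ⟨x, rfl⟩ : ∃ x, (i0 d).inv x = z := ⟨(i0 d).hom z, by simp⟩
      rw [(HomologicalComplex.isZero_double_X d' _ (-2) (by omega) (by omega)).eq_of_src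
        ((dbl d').d (-2) (-1)) 0, h0] at hy
      have hx : a x = 0 := by
        apply (i0 d').symm.toLinearEquiv.injective
        rw [map_zero]
        simpa using hy.symm
      have hd : d x = 0 := by
        apply (i1 d).symm.toLinearEquiv.injective
        rw [map_zero]
        exact (dbl_d x).symm.trans hz
      exact ⟨0, by rw [hker1 x hd hx]; simp⟩
    · obtain ⟨x', rfl⟩ : ∃ x, (i0 d').inv x = z := ⟨(i0 d').hom z, by simp⟩
      have hd : d' x' = 0 := by
        apply (i1 d').symm.toLinearEquiv.injective
        rw [map_zero]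
        exact (dbl_d x').symm.trans hz
      obtain ⟨x, hx, rfl⟩ := hker2 x' hd
      exact ⟨(i0 d).inv x, 0, by rw [dbl_d, hx, map_zero], by rw [h0]; simp⟩
  by_cases hn' : n = 0
  · subst hn'
    refine (ConcreteCategory.isIso_iff_bijective _).2
      ⟨(injective_homologyMap_iff φ (i := -1) (k := 1) (by simp) (by simp)).2 fun z hz y hy => ?_,
        (surjective_homologyMap_iff φ (i := -1) (k := 1) (by simp) (by simp)).2 fun z hz => ?_⟩
    · obtain ⟨w, rfl⟩ : ∃ x, (i1 d).inv x = z := ⟨(i1 d).hom z, by simp⟩
      obtain ⟨x', rfl⟩ : ∃ x, (i0 d').inv x = y := ⟨(i0 d').hom y, by simp⟩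
      rw [dbl_d, h1] at hy
      obtain ⟨x, rfl⟩ := hcok1 w x' (by
        apply (i1 d').symm.toLinearEquiv.injective
        simpa using hy)
      exact ⟨(i0 d).inv x, dbl_d x⟩
    · obtain ⟨w, rfl⟩ : ∃ x, (i1 d').inv x = z := ⟨(i1 d').hom z, by simp⟩
      obtain ⟨y, x', rfl⟩ := hcok2 w
      refine ⟨(i1 d).inv y, (i0 d').inv (-x'), ?_, ?_⟩
      · rw [(HomologicalComplex.isZero_double_X d _ 1 (by omega) (by omega)).eq_of_tgt ((dbl d).d 0 1) 0]
        rfl
      · rw [dbl_d, h1]
        simp
  exact (ConcreteCategory.isIso_iff_bijective _).2 ⟨fun a b _ => by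
      have := ModuleCat.subsingleton_of_isZero
        ((HomologicalComplex.exactAt_iff_isZero_homology _ _).1
          (HomologicalComplex.ExactAt.of_isZero (HomologicalComplex.isZero_double_X d
            (show (ComplexShape.up ℤ).Rel (-1) 0 by simp) n hn hn')))
      exact Subsingleton.elim _ _, fun b => ⟨0, by
      have := ModuleCat.subsingleton_of_isZero
        ((HomologicalComplex.exactAt_iff_isZero_homology _ _).1
          (HomologicalComplex.ExactAt.of_isZero (HomologicalComplex.isZero_double_X d'
            (show (ComplexShape.up ℤ).Rel (-1) 0 by simp) n hn hn')))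
      exact Subsingleton.elim _ _⟩⟩

end TwoTerm

variable {R S R' S' : Type u} [CommRing R] [CommRing S] [CommRing R'] [CommRing S'] [Algebra R S]
  [Algebra R' S'] [Algebra R R'] [Algebra S S'] [Algebra R S'] [IsScalarTower R R' S'] [IsScalarTower R S S']

theorem subsingleton_tensor_kaehler [Algebra.FormallyUnramified R R'] :
    Subsingleton (S' ⊗[R'] Ω[R'⁄R]) :=
  subsingleton_of_forall_eq 0 fun x => by
    induction x using TensorProduct.induction_on with
    | zero => rfl
    | tmul s w => rw [Subsingleton.elim w 0, TensorProduct.tmul_zero]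
    | add a b ha hb => rw [ha, hb, add_zero]

/-- Formally étale maps do not change differentials. -/
theorem bijective_bcH0Map [Algebra.FormallyEtale S S'] [Algebra.FormallyUnramified R R'] :
    Function.Bijective (NLCx.bcH0Map R S R' S') := by
  have h1 : Function.Bijective (KaehlerDifferential.mapBaseChange R S S') :=
    (KaehlerDifferential.tensorKaehlerEquivOfFormallyEtale R S S').bijective
  have h2 : Function.Bijective (KaehlerDifferential.map R R' S' S') := by
    refine ⟨(injective_iff_map_eq_zero _).2 fun x hx => ?_, KaehlerDifferential.map_surjective R R' S'⟩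
    obtain ⟨w, rfl⟩ := (KaehlerDifferential.exact_mapBaseChange_map R R' S' x).1 hx
    haveI := subsingleton_tensor_kaehler (R := R) (R' := R') (S' := S')
    rw [Subsingleton.elim w 0, map_zero]
  have e : ⇑(NLCx.bcH0Map R S R' S') =
      ⇑(KaehlerDifferential.map R R' S' S') ∘ ⇑(KaehlerDifferential.mapBaseChange R S S') := by
    funext x
    induction x using TensorProduct.induction_on with
    | zero => simp
    | tmul s w =>
      simp only [NLCx.bcH0Map, LinearMap.liftBaseChange_tmul, Function.comp_apply,
        KaehlerDifferential.mapBaseChange_tmul, map_smul]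
      congr 1
      induction (KaehlerDifferential.span_range_derivation R S ▸ Submodule.mem_top : w ∈ Submodule.span S _)
        using Submodule.span_induction with
      | mem z hz => obtain ⟨z, rfl⟩ := hz; simp
      | zero => simp
      | add a b _ _ ha hb => simp [ha, hb]
      | smul c a _ ha => simp [ha]
    | add a b ha hb => simp only [map_add, Function.comp_apply] at ha hb ⊢; rw [ha, hb]
  rw [e]
  exact h2.comp h1

theorem toKaehler_map {P : Algebra.Extension.{u} R S} {P' : Algebra.Extension.{u} R' S'} (f : P.Hom P')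
    (x : P.CotangentSpace) :
    P'.toKaehler (CotangentSpace.map f x) = KaehlerDifferential.map R R' S S' (P.toKaehler x) := by
  induction x using TensorProduct.induction_on with
  | zero => simp only [map_zero]
  | add a b ha hb => simp only [map_add, ha, hb]
  | tmul s w =>
    induction (KaehlerDifferential.span_range_derivation R P.Ring ▸ Submodule.mem_top :
        w ∈ Submodule.span P.Ring _) using Submodule.span_induction generalizing s with
    | mem z hz =>
      obtain ⟨z, rfl⟩ := hz
      simp [f.algebraMap_toRingHom]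
    | zero => simp
    | add a b _ _ ha hb => simp only [TensorProduct.tmul_add, map_add, ha, hb]
    | smul c a _ ha =>
      have h := ha (algebraMap P.Ring S c * s)
      rwa [← Algebra.smul_def, TensorProduct.smul_tmul] at h

/-- Quasi-isomorphism from bijectivity on `H^{-1}` and on differentials. -/
theorem quasiIso_bcMap {P : Algebra.Extension.{u} R S} {P' : Algebra.Extension.{u} R' S'} (f : P.Hom P')
    (hH1 : Function.Bijective (NLCx.bcH1Map f)) (hH0 : Function.Bijective (NLCx.bcH0Map R S R' S')) :
    QuasiIso (NLCx.bcMap (S' := S') f) := by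
  have hk : ∀ y : S' ⊗[S] P.CotangentSpace,
      P'.toKaehler (LinearMap.liftBaseChange S' (CotangentSpace.map f) y) =
        NLCx.bcH0Map R S R' S' (P.toKaehler.baseChange S' y) := fun y => by
    induction y using TensorProduct.induction_on with
    | zero => simp only [map_zero]
    | add a b ha hb => simp only [map_add, ha, hb]
    | tmul s w =>
      simp only [NLCx.bcH0Map, LinearMap.liftBaseChange_tmul, LinearMap.baseChange_tmul, map_smul, toKaehler_map]
  have hex : Function.Exact (P.cotangentComplex.baseChange S') (P.toKaehler.baseChange S') :=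
    lTensor_exact S' P.exact_cotangentComplex_toKaehler P.toKaehler_surjective
  refine quasiIso_of_components _ _ _ (Complex.bcMap_f0 f) (Complex.bcMap_f1 f) (fun x hx hax => ?_)
    (fun x' hx' => ?_) (fun y x' hy => ?_) (fun y' => ?_)
  · exact congrArg Subtype.val (hH1.1 (a₁ := ⟨x, hx⟩) (a₂ := 0) (Subtype.ext (hax.trans (by simp))))
  · obtain ⟨⟨x, hx⟩, h⟩ := hH1.2 ⟨x', hx'⟩
    exact ⟨x, hx, congrArg Subtype.val h⟩
  · refine (hex y).1 (hH0.1 ?_)
    rw [← hk, map_zero]
    exact (congrArg P'.toKaehler hy.symm).trans (P'.exact_cotangentComplex_toKaehler.apply_apply_eq_zero x')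
  · obtain ⟨w, hw⟩ := hH0.2 (P'.toKaehler y')
    obtain ⟨y, rfl⟩ := LinearMap.lTensor_surjective S' P.toKaehler_surjective w
    obtain ⟨x', hx'⟩ := (P'.exact_cotangentComplex_toKaehler
      (y' - LinearMap.liftBaseChange S' (CotangentSpace.map f) y)).1 (by
        rw [map_sub, sub_eq_zero, hk]
        exact hw.symm)
    exact ⟨y, x', (congrArg (_ + ·) hx').trans (add_sub_cancel _ _)⟩

/-- Jacobi–Zariski: surjectivity on `H^{-1}`. -/
theorem bcH1Map_self_surjective [Algebra.FormallySmooth S S'] [Module.Flat S S']
    [Algebra.FormallyUnramified R R'] :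
    Function.Surjective (NLCx.bcH1Map
      ((Algebra.Generators.self R S).defaultHom (Algebra.Generators.self R' S')).toExtensionHom) := by
  intro y
  haveI := subsingleton_tensor_kaehler (R := R) (R' := R') (S' := S')
  haveI : Subsingleton (Algebra.H1Cotangent S S') := Algebra.FormallySmooth.subsingleton_h1Cotangent
  obtain ⟨z, rfl⟩ := (Algebra.H1Cotangent.exact_map_δ R R' S' y).1 (Subsingleton.elim _ _)
  obtain ⟨w, rfl⟩ := (Algebra.H1Cotangent.exact_liftBaseChange_map_of_flat R S S' z).1 (Subsingleton.elim _ _)
  induction w using TensorProduct.induction_on with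
  | zero => exact ⟨0, by simp⟩
  | add a b ha hb =>
    obtain ⟨xa, ha⟩ := ha
    obtain ⟨xb, hb⟩ := hb
    exact ⟨xa + xb, by rw [map_add, map_add, map_add, ha, hb]⟩
  | tmul t x =>
    refine ⟨⟨t ⊗ₜ x.1, ?_⟩, ?_⟩
    · change (Algebra.Generators.self R S).toExtension.cotangentComplex.baseChange S' (t ⊗ₜ[S] x.1) = 0
      rw [LinearMap.baseChange_tmul, show (Algebra.Generators.self R S).toExtension.cotangentComplex x.1 = 0
        from x.2, TensorProduct.tmul_zero]
    · rw [LinearMap.liftBaseChange_tmul, map_smul]
      refine Subtype.ext ?_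
      rw [H1.bcH1Map_coe]
      change LinearMap.liftBaseChange S' _ (t ⊗ₜ[S] x.1) = t • _
      rw [LinearMap.liftBaseChange_tmul]
      congr 1
      have key := Algebra.Extension.H1Cotangent.map_eq
        ((Algebra.Generators.self R S).defaultHom (Algebra.Generators.self R' S')).toExtensionHom
        (((Algebra.Generators.self R S').defaultHom (Algebra.Generators.self R' S')).toExtensionHom.comp
          ((Algebra.Generators.self R S).defaultHom (Algebra.Generators.self R S')).toExtensionHom)
      have key' := LinearMap.congr_fun key x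
      rw [Algebra.Extension.H1Cotangent.map_comp_apply] at key'
      exact congrArg Subtype.val key'

/-- Injectivity on `H^{-1}` from a square-zero deformation of `S'` over `P/I²`. -/
theorem bcH1Map_self_injective [Algebra.FormallyEtale R R'] [Module.Flat S S']
    (D : Type u) [CommRing D] [Algebra (Algebra.Generators.self R S).toExtension.infinitesimal.Ring D]
    [hD : Module.Flat (Algebra.Generators.self R S).toExtension.infinitesimal.Ring D]
    (π : D →+* S') (hπ : Function.Surjective π)
    (hcomp : ∀ x : (Algebra.Generators.self R S).toExtension.infinitesimal.Ring,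
      π (algebraMap _ D x) = algebraMap S S' (algebraMap _ S x))
    (hker : RingHom.ker π = (Algebra.Generators.self R S).toExtension.infinitesimal.ker.map
      (algebraMap _ D)) :
    Function.Injective (NLCx.bcH1Map
      ((Algebra.Generators.self R S).defaultHom (Algebra.Generators.self R' S')).toExtensionHom) := by
  let P := (Algebra.Generators.self R S).toExtension
  let P₂ := P.infinitesimal
  letI algRD : Algebra R D := ((algebraMap P₂.Ring D).comp (algebraMap R P₂.Ring)).toAlgebra
  letI : Algebra D S' := π.toAlgebra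
  haveI : IsScalarTower R D S' := IsScalarTower.of_algebraMap_eq fun r => by
    change _ = π (algebraMap P₂.Ring D (algebraMap R P₂.Ring r))
    rw [hcomp, ← IsScalarTower.algebraMap_apply R P₂.Ring S, ← IsScalarTower.algebraMap_apply]
  let π' : D →ₐ[R] S' := IsScalarTower.toAlgHom R D S'
  have hnil : IsNilpotent (RingHom.ker (π' : D →+* S')) := by
    refine ⟨2, ?_⟩
    rw [show RingHom.ker (π' : D →+* S') = RingHom.ker π from rfl, hker, ← Ideal.map_pow,
      show P₂.ker ^ 2 = ⊥ by
        rw [Algebra.Extension.ker_infinitesimal]; exact P.ker.cotangentIdeal_square,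
      Ideal.map_bot]
    rfl
  let l : R' →ₐ[R] D := Algebra.FormallySmooth.liftOfSurjective (IsScalarTower.toAlgHom R R' S') π' hπ hnil
  letI : Algebra R' D := l.toRingHom.toAlgebra
  haveI : IsScalarTower R' D S' := IsScalarTower.of_algebraMap_eq fun r =>
    (Algebra.FormallySmooth.liftOfSurjective_apply (IsScalarTower.toAlgHom R R' S') π' hπ hnil r).symm
  let Q : Algebra.Extension.{u} R' S' :=
    Algebra.Extension.ofSurjective (IsScalarTower.toAlgHom R' D S') hπ
  let h₁ : P.Hom P₂ := P.toInfinitesimal
  let h₂ : P₂.Hom Q :=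
    { toRingHom := algebraMap P₂.Ring D
      toRingHom_algebraMap := fun r => (l.commutes r).symm
      algebraMap_toRingHom := fun x => hcomp x }
  letI alg : Algebra P₂.Ring Q.Ring := (inferInstance : Algebra P₂.Ring D)
  haveI : Module.Flat P₂.Ring Q.Ring := hD
  have hinj2 : Function.Injective (LinearMap.liftBaseChange S' (Cotangent.map h₂)) :=
    BaseChange.liftBaseChange_cotangent_injective h₂ (fun _ => rfl) hker
      (Module.Flat.lTensor_preserves_injective_linearMap (M := Q.Ring) _ Subtype.val_injective)
  have hinj1 : Function.Injective (Cotangent.map h₁) := by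
    refine (injective_iff_map_eq_zero _).2 fun x hx => ?_
    obtain ⟨⟨x, hx'⟩, rfl⟩ := Cotangent.mk_surjective x
    rw [Cotangent.map_mk, Cotangent.mk_eq_zero_iff] at hx
    rw [Cotangent.mk_eq_zero_iff]
    rw [show P.infinitesimal.ker ^ 2 = ⊥ by
        rw [Algebra.Extension.ker_infinitesimal]; exact P.ker.cotangentIdeal_square] at hx
    exact Ideal.Quotient.eq_zero_iff_mem.1 hx
  let f₀ := Algebra.Extension.defaultHom (P := Q)
  intro x y hxy
  have key : ∀ z, NLCx.bcH1Map h₂ (H1.res h₁ z) = H1Cotangent.map f₀ (NLCx.bcH1Map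
      ((Algebra.Generators.self R S).defaultHom (Algebra.Generators.self R' S')).toExtensionHom z) := fun z => by
    rw [H1.bcH1Map_res, ← H1.bcH1Map_comp_apply]
    exact H1.bcH1Map_eq _ _ z
  have h := key x
  rw [hxy, ← key y] at h
  have h' : (Cotangent.map h₁).baseChange S' x.1 = (Cotangent.map h₁).baseChange S' y.1 :=
    hinj2 (congrArg Subtype.val h)
  exact Subtype.ext (Module.Flat.lTensor_preserves_injective_linearMap (M := S') _ hinj1 h')

end Groth.Agent.Lib.NLSheaf.IndEtale
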