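import Groth.Agent.Lib.NLSheaf.H1
import Groth.Agent.H54.NLPerfect
import Groth.Agent.Lib.Synt92.KRIdeal
import Groth.Prelude.Def_LCI2

/-!
# The kernel of the base change map on `H^{-1}` of the naive cotangent complex of an lci algebra
-/

set_option autoImplicit false
set_option linter.style.haveILetI false

universe u

open TensorProduct Algebra.Extension

namespace Groth.Agent.Lib.NLSheaf.LciKer

variable {R S R' S' : Type u} [CommRing R] [CommRing S] [CommRing R'] [CommRing S'] [Algebra R S]
  [Algebra R' S'] [Algebra R R'] [Algebra S S'] [Algebra R S'] [IsScalarTower R R' S'] [IsScalarTower R S S']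
  [Algebra.IsPushout R R' S S'] {ι : Type u}

theorem aeval_bc_surjective (G : Algebra.Generators R S ι) :
    Function.Surjective (MvPolynomial.aeval (R := R') fun i => algebraMap S S' (G.val i)) := by
  haveI : Algebra.IsPushout R S R' S' := Algebra.IsPushout.symm inferInstance
  intro x
  obtain ⟨x, rfl⟩ := (Algebra.IsPushout.equiv R S R' S').surjective x
  induction x using TensorProduct.induction_on with
  | zero => exact ⟨0, by simp⟩
  | tmul s r =>
    refine ⟨MvPolynomial.map (algebraMap R R') (G.σ s) * MvPolynomial.C r, ?_⟩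
    rw [map_mul, MvPolynomial.aeval_C, MvPolynomial.aeval_map_algebraMap, Algebra.IsPushout.equiv_tmul]
    have : MvPolynomial.aeval (R := R) (fun i => algebraMap S S' (G.val i)) (G.σ s) = algebraMap S S' s := by
      show MvPolynomial.aeval (algebraMap S S' ∘ G.val) (G.σ s) = _
      rw [MvPolynomial.aeval_algebraMap_apply, G.aeval_val_σ]
    rw [this]
  | add a b ha hb =>
    obtain ⟨pa, ha⟩ := ha
    obtain ⟨pb, hb⟩ := hb
    exact ⟨pa + pb, by rw [map_add, map_add, ha, hb]⟩

/-- The base change of a presentation. -/
noncomputable def genBC (G : Algebra.Generators R S ι) : Algebra.Generators R' S' ι :=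
  Algebra.Generators.ofSurjective (fun i => algebraMap S S' (G.val i))
    (aeval_bc_surjective (R := R) (S := S) (R' := R') (S' := S') G)

theorem finite_projective_of_isLCI {A B : Type u} [CommRing A] [CommRing B] [Algebra A B] (h : LCI.IsLCI A B)
    {κ : Type u} [Finite κ] (G : Algebra.Generators A B κ) :
    Module.Finite B G.toExtension.Cotangent ∧ Module.Projective B G.toExtension.Cotangent := by
  obtain ⟨-, n, f, hf, hI⟩ := h
  haveI : Algebra.Smooth A (MvPolynomial (Fin n) A) := ⟨inferInstance, inferInstance⟩
  haveI : Algebra.Smooth A (MvPolynomial κ A) := ⟨inferInstance, inferInstance⟩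
  have hK := Groth.Agent.Lib.Synt92.KRIdeal.isKoszulRegularIdeal_of_presentation f hf
    (MvPolynomial.aeval G.val) (fun x => ⟨G.σ x, G.aeval_val_σ x⟩) hI
  refine Groth.Agent.H54.NLPerfect.finite_projective_cotangent (P := G.toExtension) ?_
  have hker : G.toExtension.ker = RingHom.ker (MvPolynomial.aeval (R := A) G.val).toRingHom :=
    G.ker_eq_ker_aeval_val
  exact hker ▸ hK

theorem finite_projective_ker {C M N : Type u} [CommRing C] [AddCommGroup M] [Module C M] [AddCommGroup N]
    [Module C N] [Module.Finite C M] [Module.Projective C M] [Module.Projective C N] (l : M →ₗ[C] N)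
    (hl : Function.Surjective l) : Module.Finite C (LinearMap.ker l) ∧ Module.Projective C (LinearMap.ker l) := by
  obtain ⟨s, hs⟩ := Module.projective_lifting_property l LinearMap.id hl
  have hs' : ∀ y, l (s y) = y := LinearMap.congr_fun hs
  let p : M →ₗ[C] LinearMap.ker l := (LinearMap.id - s ∘ₗ l).codRestrict _ fun m => by simp [hs']
  have hp : p ∘ₗ (LinearMap.ker l).subtype = LinearMap.id :=
    LinearMap.ext fun x => Subtype.ext (by simp [p])
  exact ⟨Module.Finite.of_surjective p fun x => ⟨x.1, LinearMap.congr_fun hp x⟩,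
    Module.Projective.of_split (LinearMap.ker l).subtype p hp⟩

theorem nonempty_kerEquiv (G : Algebra.Generators R S ι) :
    Nonempty (LinearMap.ker (LinearMap.liftBaseChange S' (Cotangent.map
        (NLCx.sameVarsHom G (genBC (R' := R') (S' := S') G) fun _ => rfl).toExtensionHom)) ≃ₗ[S']
      LinearMap.ker (NLCx.bcH1Map
        ((Algebra.Generators.self R S).defaultHom (Algebra.Generators.self R' S')).toExtensionHom)) := by
  let G' := genBC (R' := R') (S' := S') G
  let φ := (NLCx.sameVarsHom G G' fun _ => rfl).toExtensionHom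
  let f := ((Algebra.Generators.self R S).defaultHom (Algebra.Generators.self R' S')).toExtensionHom
  let a := (G.defaultHom (Algebra.Generators.self R S)).toExtensionHom
  let b := ((Algebra.Generators.self R S).defaultHom G).toExtensionHom
  let a' := (G'.defaultHom (Algebra.Generators.self R' S')).toExtensionHom
  let b' := ((Algebra.Generators.self R' S').defaultHom G').toExtensionHom
  let E := H1.resEquiv (S' := S') a b
  have hinj : Function.Injective (H1Cotangent.map a') := (H1Cotangent.equiv a' b').injective
  have hE : ∀ x : NLCx.bcH1 G.toExtension S', NLCx.bcH1Map f (E x) = 0 ↔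
      LinearMap.liftBaseChange S' (Cotangent.map φ) x.1 = 0 := fun x => by
    have hx : NLCx.bcH1Map f (E x) = H1Cotangent.map a' (NLCx.bcH1Map φ x) := by
      show NLCx.bcH1Map f (H1.res a x) = _
      rw [H1.bcH1Map_res, H1.bcH1Map_eq _ (a'.comp φ), H1.bcH1Map_comp_apply]
    rw [hx, ← map_zero (H1Cotangent.map a'), hinj.eq_iff]
    exact Subtype.ext_iff
  have hmem : ∀ x : S' ⊗[S] G.toExtension.Cotangent, LinearMap.liftBaseChange S' (Cotangent.map φ) x = 0 →
      x ∈ NLCx.bcH1 G.toExtension S' := fun x hx => by
    refine (BaseChange.liftBaseChange_cotangentSpace_bijective G G' fun _ => rfl).1 ?_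
    rw [map_zero]
    have key : G'.toExtension.cotangentComplex ∘ₗ LinearMap.liftBaseChange S' (Cotangent.map φ) =
        LinearMap.liftBaseChange S' (CotangentSpace.map φ) ∘ₗ G.toExtension.cotangentComplex.baseChange S' := by
      ext z
      simpa using (CotangentSpace.map_cotangentComplex φ z).symm
    have h := LinearMap.congr_fun key x
    rw [LinearMap.comp_apply, hx, map_zero] at h
    exact h.symm
  let g : LinearMap.ker (LinearMap.liftBaseChange S' (Cotangent.map φ)) →ₗ[S'] NLCx.bcH1 G.toExtension S' :=
    (LinearMap.ker (LinearMap.liftBaseChange S' (Cotangent.map φ))).subtype.codRestrict _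
      fun x => hmem _ (LinearMap.mem_ker.1 x.2)
  let F : LinearMap.ker (LinearMap.liftBaseChange S' (Cotangent.map φ)) →ₗ[S'] LinearMap.ker (NLCx.bcH1Map f) :=
    (E.toLinearMap ∘ₗ g).codRestrict _ fun x => LinearMap.mem_ker.2 ((hE (g x)).2 (LinearMap.mem_ker.1 x.2))
  refine ⟨LinearEquiv.ofBijective F ⟨fun x y hxy => ?_, fun y => ?_⟩⟩
  · exact Subtype.ext (congrArg Subtype.val (E.injective (congrArg Subtype.val hxy)) :)
  · refine ⟨⟨(E.symm y.1).1, (hE (E.symm y.1)).1 ?_⟩, Subtype.ext (E.apply_symm_apply y.1)⟩
    rw [E.apply_symm_apply]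
    exact y.2

theorem finite_projective_ker_bcH1Map (hB : LCI.IsLCI R S) (hB' : LCI.IsLCI R' S') :
    Module.Finite S' (LinearMap.ker (NLCx.bcH1Map
        ((Algebra.Generators.self R S).defaultHom (Algebra.Generators.self R' S')).toExtensionHom)) ∧
      Module.Projective S' (LinearMap.ker (NLCx.bcH1Map
        ((Algebra.Generators.self R S).defaultHom (Algebra.Generators.self R' S')).toExtensionHom)) := by
  obtain ⟨-, n, f, hf, -⟩ := id hB
  let G : Algebra.Generators R S (ULift.{u} (Fin n)) :=
    Algebra.Generators.ofSurjective (fun i => f (MvPolynomial.X i.down)) fun s => by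
      obtain ⟨p, rfl⟩ := hf s
      refine ⟨MvPolynomial.rename ULift.up p, ?_⟩
      rw [MvPolynomial.aeval_rename]
      exact (DFunLike.congr_fun (MvPolynomial.aeval_unique f) p).symm
  let G' := genBC (R' := R') (S' := S') G
  obtain ⟨h1, h2⟩ := finite_projective_of_isLCI hB G
  obtain ⟨h1', h2'⟩ := finite_projective_of_isLCI hB' G'
  obtain ⟨e⟩ := nonempty_kerEquiv (R' := R') (S' := S') G
  obtain ⟨hfin, hproj⟩ := finite_projective_ker
    (LinearMap.liftBaseChange S' (Cotangent.map (NLCx.sameVarsHom G G' fun _ => rfl).toExtensionHom))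
    (BaseChange.liftBaseChange_cotangent_surjective _ (BaseChange.ker_eq_map G G' fun _ => rfl))
  exact ⟨Module.Finite.equiv e, Module.Projective.of_equiv e⟩

end Groth.Agent.Lib.NLSheaf.LciKer
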