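import Groth.Agent.Lib.NLSheaf.Glue
import Groth.Agent.Lib.QCoh.Localizing

/-! The sheaf `H^{-1}(NL_{X/Y})` with its identifications over affine chart pairs, and its quasi-coherence. -/

set_option autoImplicit false

universe u

open CategoryTheory AlgebraicGeometry Opposite TopologicalSpace

namespace Groth.Agent.Lib.NLSheaf

open Chart

noncomputable section

variable {X Y : Scheme.{u}} (f : X ⟶ Y)

/-- Chart pairs with source in `W`. -/
abbrev Idx (W : X.Opens) : Type u := {q : Pair f // (q.U : X.Opens) ≤ W}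

/-- Compatible families on chart pairs inside `W`. -/
def sec (W : X.Opens) : AddSubgroup (∀ q : Idx f W, H q.1) where
  carrier := {x | ∀ (q r : Idx f W) (h : r.1 ≤ q.1), res h (x q) = x r}
  zero_mem' q r h := map_zero (res h)
  add_mem' {x y} hx hy q r h := by rw [Pi.add_apply, Pi.add_apply, map_add, hx q r h, hy q r h]
  neg_mem' {x} hx q r h := by rw [Pi.neg_apply, Pi.neg_apply, map_neg, hx q r h]

/-- Restriction of functions to the source of a pair inside `W`. -/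
abbrev rest {W : X.Opens} (q : Idx f W) : Γ(X, W) →+* Γ(X, (q.1.U : X.Opens)) :=
  (X.presheaf.map (homOfLE q.2).op).hom

theorem rest_rest {W : X.Opens} (q r : Idx f W) (h : r.1 ≤ q.1) (a : Γ(X, W)) :
    (X.presheaf.map (homOfLE h.1).op).hom (rest f q a) = rest f r a := by
  change (X.presheaf.map (homOfLE q.2).op ≫ X.presheaf.map (homOfLE h.1).op).hom a = _
  rw [← Functor.map_comp]
  rfl

instance (W : X.Opens) : SMul Γ(X, W) (sec f W) :=
  ⟨fun a x => ⟨fun q => rest f q a • x.1 q, fun q r h => by rw [res_smul, x.2 q r h, rest_rest f q r h]⟩⟩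

theorem smul_apply {W : X.Opens} (a : Γ(X, W)) (x : sec f W) (q : Idx f W) :
    (a • x).1 q = rest f q a • x.1 q := rfl

instance (W : X.Opens) : Module Γ(X, W) (sec f W) where
  one_smul x := Subtype.ext (funext fun q => by rw [smul_apply, map_one, one_smul])
  mul_smul a b x := Subtype.ext (funext fun q => by rw [smul_apply, map_mul, mul_smul]; rfl)
  smul_zero a := Subtype.ext (funext fun q => smul_zero _)
  smul_add a x y := Subtype.ext (funext fun q => smul_add _ _ _)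
  add_smul a b x := Subtype.ext (funext fun q => by rw [smul_apply, map_add, add_smul]; rfl)
  zero_smul x := Subtype.ext (funext fun q => by rw [smul_apply, map_zero, zero_smul]; rfl)

/-- Restriction of compatible families. -/
def resSec {W W' : X.Opens} (i : W' ≤ W) : sec f W →+ sec f W' where
  toFun x := ⟨fun q => x.1 ⟨q.1, q.2.trans i⟩, fun q r h => x.2 ⟨q.1, q.2.trans i⟩ ⟨r.1, r.2.trans i⟩ h⟩
  map_zero' := rfl
  map_add' _ _ := rfl

/-- The presheaf of compatible families. -/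
def presheaf : TopCat.Presheaf Ab.{u} X where
  obj W := AddCommGrpCat.of (sec f W.unop)
  map i := AddCommGrpCat.ofHom (resSec f i.unop.le)
  map_id _ := rfl
  map_comp _ _ := rfl

instance (W : (Opens X)ᵒᵖ) : Module (X.ringCatSheaf.obj.obj W) ((presheaf f).obj W) :=
  inferInstanceAs (Module Γ(X, W.unop) (sec f W.unop))

theorem sec_ext {ι : Type*} {W : X.Opens} (V : ι → X.Opens) (hW : W ≤ iSup V) {x y : sec f W}
    (h : ∀ (q : Idx f W) a, (q.1.U : X.Opens) ≤ V a → x.1 q = y.1 q) : x = y := by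
  refine Subtype.ext (funext fun q => sep fun z hz => ?_)
  obtain ⟨a, ha⟩ := Opens.mem_iSup.1 (hW (q.2 hz))
  obtain ⟨U', hU', hzU', hle⟩ := Opens.isBasis_iff_nbhd.1 X.isBasis_affineOpens
    (show z ∈ (q.1.U : X.Opens) ⊓ V a from ⟨hz, ha⟩)
  let r : Idx f W := ⟨⟨⟨U', hU'⟩, q.1.V, (hle.trans inf_le_left).trans q.1.e⟩,
    (hle.trans inf_le_left).trans q.2⟩
  have hr : r.1 ≤ q.1 := ⟨hle.trans inf_le_left, le_rfl⟩
  exact ⟨r.1, hr, hzU', by rw [x.2 q r hr, y.2 q r hr, h r a (hle.trans inf_le_right)]⟩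

/-- The sheaf `H^{-1}(NL_{X/Y})`. -/
def sheaf : X.Modules where
  val := PresheafOfModules.ofPresheaf (presheaf f) fun {W W'} g a (x : sec f W.unop) =>
    Subtype.ext (funext fun q => by
      change rest f _ a • _ = rest f q _ • _
      congr 1
      change _ = (X.presheaf.map g ≫ X.presheaf.map (homOfLE q.2).op).hom a
      rw [← Functor.map_comp]
      rfl)
  isSheaf := by
    refine (TopCat.Presheaf.isSheaf_iff_isSheafUniqueGluing (X := X.carrier) (F := presheaf f)).2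
      fun κ V sf hsf => ?_
    let P : Pair f → Prop := fun r => ∃ a, (r.U : X.Opens) ≤ V a
    have hP : ∀ r r', r' ≤ r → P r → P r' := fun r r' h ⟨a, ha⟩ => ⟨a, h.1.trans ha⟩
    have hind : ∀ (r : Pair f) a b (ha : (r.U : X.Opens) ≤ V a) (hb : (r.U : X.Opens) ≤ V b),
        (sf a).1 ⟨r, ha⟩ = (sf b).1 ⟨r, hb⟩ := fun r a b ha hb =>
      congrFun (congrArg Subtype.val (hsf a b)) ⟨r, le_inf ha hb⟩
    let x : ∀ r, P r → H r := fun r hr => (sf hr.choose).1 ⟨r, hr.choose_spec⟩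
    have hg : ∀ q : Idx f (iSup V), ∃ y : H q.1, ∀ r (hr : P r) (hq : r ≤ q.1), res hq y = x r hr := by
      intro q
      refine glue q.1 P hP (fun z hz => ?_) (fun r hr _ => x r hr) fun r r' h hr _ => ?_
      · obtain ⟨a, ha⟩ := Opens.mem_iSup.1 (q.2 hz)
        obtain ⟨U', hU', hzU', hle⟩ := Opens.isBasis_iff_nbhd.1 X.isBasis_affineOpens
          (show z ∈ (q.1.U : X.Opens) ⊓ V a from ⟨hz, ha⟩)
        exact ⟨⟨⟨U', hU'⟩, q.1.V, (hle.trans inf_le_left).trans q.1.e⟩, ⟨a, hle.trans inf_le_right⟩,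
          ⟨hle.trans inf_le_left, le_rfl⟩, hzU'⟩
      · exact ((sf hr.choose).2 ⟨r, hr.choose_spec⟩ ⟨r', h.1.trans hr.choose_spec⟩ h).trans
          (hind r' _ _ _ _)
    choose y hy using hg
    have hmem : y ∈ sec f (iSup V) := fun q r h => sep fun z hz => by
      obtain ⟨a, ha⟩ := Opens.mem_iSup.1 (r.2 hz)
      obtain ⟨U', hU', hzU', hle⟩ := Opens.isBasis_iff_nbhd.1 X.isBasis_affineOpens
        (show z ∈ (r.1.U : X.Opens) ⊓ V a from ⟨hz, ha⟩)
      let t : Pair f := ⟨⟨U', hU'⟩, r.1.V, (hle.trans inf_le_left).trans r.1.e⟩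
      have ht : t ≤ r.1 := ⟨hle.trans inf_le_left, le_rfl⟩
      exact ⟨t, ht, hzU', by
        rw [res_res h ht (ht.trans h), hy q t ⟨a, hle.trans inf_le_right⟩,
          hy r t ⟨a, hle.trans inf_le_right⟩]⟩
    refine ⟨(⟨y, hmem⟩ : sec f (iSup V)), fun a => ?_, fun s hs => ?_⟩
    · refine Subtype.ext (funext fun q => ?_)
      change y ⟨q.1, q.2.trans (le_iSup V a)⟩ = (sf a).1 q
      rw [← res_self le_rfl (y _), hy _ q.1 ⟨a, q.2⟩]
      exact hind q.1 _ a _ q.2
    · refine sec_ext f V le_rfl fun q a ha => ?_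
      have := congrFun (congrArg Subtype.val (hs a)) ⟨q.1, ha⟩
      refine this.trans ?_
      change _ = y q
      rw [← res_self le_rfl (y q), hy q q.1 ⟨a, ha⟩]
      exact hind q.1 a _ ha _

theorem exists_family (p : Pair f) (y : H p) :
    ∃ x : sec f (p.U : X.Opens), x.1 ⟨p, le_rfl⟩ = y := by
  have hg : ∀ q : Idx f (p.U : X.Opens), ∃ y' : H q.1, ∀ r (hr : r ≤ p) (hq : r ≤ q.1),
      res hq y' = res hr y := by
    intro q
    refine glue q.1 (fun r => r ≤ p) (fun r r' h hr => h.trans hr) (fun z hz => ?_)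
      (fun r hr _ => res hr y) fun r r' h hr _ => res_res hr h (h.trans hr) y
    obtain ⟨t, h₁, h₂, hz'⟩ := exists_common q.1 p hz (q.2 hz)
    exact ⟨t, h₂, h₁, hz'⟩
  choose x hx using hg
  refine ⟨⟨x, fun q r h => sep fun z hz => ?_⟩, ?_⟩
  · obtain ⟨t, h₁, h₂, hz'⟩ := exists_common r.1 p hz (r.2 hz)
    exact ⟨t, h₁, hz', by rw [res_res h h₁ (h₁.trans h), hx q t h₂, hx r t h₂]⟩
  · change x ⟨p, le_rfl⟩ = y
    rw [← res_self le_rfl (x _), hx ⟨p, le_rfl⟩ p le_rfl, res_self]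

theorem eval_injective (p : Pair f) {x x' : sec f (p.U : X.Opens)}
    (h : x.1 ⟨p, le_rfl⟩ = x'.1 ⟨p, le_rfl⟩) : x = x' := by
  refine Subtype.ext (funext fun q => sep fun z hz => ?_)
  obtain ⟨t, h₁, h₂, hz'⟩ := exists_common q.1 p hz (q.2 hz)
  refine ⟨t, h₁, hz', ?_⟩
  rw [x.2 q ⟨t, h₂.1⟩ h₁, x'.2 q ⟨t, h₂.1⟩ h₁, ← x.2 ⟨p, le_rfl⟩ ⟨t, h₂.1⟩ h₂,
    ← x'.2 ⟨p, le_rfl⟩ ⟨t, h₂.1⟩ h₂, h]

/-- Evaluation of a family at the pair itself. -/
def evalEquiv (p : Pair f) : sec f (p.U : X.Opens) ≃+ H p :=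
  AddEquiv.ofBijective
    ({ toFun := fun x => x.1 ⟨p, le_rfl⟩, map_zero' := rfl, map_add' := fun _ _ => rfl } :
      sec f (p.U : X.Opens) →+ H p)
    ⟨fun _ _ h => eval_injective f p h, exists_family f p⟩

/-- The identifications of `sheaf f` over affine chart pairs. -/
def h1Sheaf : NLCx.H1Sheaf f (sheaf f) where
  iso U V e := evalEquiv f ⟨U, V, e⟩
  map_smul U V e a m := by
    change rest f (W := (U : X.Opens)) ⟨⟨U, V, e⟩, le_rfl⟩ a •
      (m : sec f (U : X.Opens)).1 (⟨⟨U, V, e⟩, le_rfl⟩ : Idx f (U : X.Opens)) = _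
    rw [show rest f (W := (U : X.Opens)) ⟨⟨U, V, e⟩, le_rfl⟩ a = a by
      change (X.presheaf.map (𝟙 (op (U : X.Opens)))).hom a = a
      rw [X.presheaf.map_id]; rfl]
    rfl
  map_res {U U' V V'} e e' hU hV m := by
    exact ((m : sec f (U : X.Opens)).2 ⟨⟨U, V, e⟩, le_rfl⟩ ⟨⟨U', V', e'⟩, hU⟩ ⟨hU, hV⟩).symm

open Groth.Agent.Lib.QCoh in
theorem isQuasicoherent_of_h1Sheaf {F : X.Modules} (c : NLCx.H1Sheaf f F) : F.IsQuasicoherent := by
  refine Localizing.isQCoh_of_forall_exists_localizes fun z => ?_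
  obtain ⟨V, hV, hzV, -⟩ := Opens.isBasis_iff_nbhd.1 Y.isBasis_affineOpens (Opens.mem_top (f.base z))
  obtain ⟨U, hU, hzU, hle⟩ := Opens.isBasis_iff_nbhd.1 X.isBasis_affineOpens (show z ∈ f ⁻¹ᵁ V from hzV)
  refine ⟨U, hU, hzU, fun g => ?_⟩
  let p : Pair f := ⟨⟨U, hU⟩, ⟨V, hV⟩, hle⟩
  have hres := fun t : Γ(F, U) => c.map_res p.e (p.basic g).e (p.basic_le g).1 (p.basic_le g).2 t
  refine ⟨fun s => ?_, fun t ht => ?_⟩
  · obtain ⟨n, x, hx⟩ := (res_basic_surj_and_exists_of_eq p g).1 (c.iso (p.basic g).U p.V (p.basic g).e s)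
    refine ⟨n, (c.iso p.U p.V p.e).symm x, (c.iso (p.basic g).U p.V (p.basic g).e).injective ?_⟩
    refine (hres _).trans ?_
    rw [AddEquiv.apply_symm_apply]
    refine hx.trans ?_
    rw [map_pow]
    exact (c.map_smul (p.basic g).U p.V (p.basic g).e _ s).symm
  · have h0 : res (p.basic_le g) (c.iso p.U p.V p.e t) = res (p.basic_le g) 0 := by
      rw [map_zero]
      refine (hres t).symm.trans ?_
      rw [← map_zero (c.iso (p.basic g).U (p.basic g).V (p.basic g).e)]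
      exact congrArg _ ht
    obtain ⟨n, hn⟩ := (res_basic_surj_and_exists_of_eq p g).2 _ _ h0
    refine ⟨n, (c.iso p.U p.V p.e).injective ?_⟩
    exact ((c.map_smul _ _ _ _ _).trans (hn.trans (smul_zero _))).trans (map_zero _).symm

end

end Groth.Agent.Lib.NLSheaf
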